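import Cfsg.Agent.Z6.Ch

/-! The principal 2-block through quotients. -/

set_option autoImplicit false
set_option linter.unusedVariables false
set_option linter.unusedSectionVars false

namespace CK

open Cfsg Subgroup H8 L GW Z6
open FT (Cen1)
open scoped ComplexConjugate Classical

section Fib

variable {C X : Type*} [Group C] [Fintype C] [Group X] [Fintype X] {π : C →* X} {θ : C → ℂ}

/-- average over the fibres -/
noncomputable def fib (π : C →* X) (θ : C → ℂ) (x : X) : ℂ :=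
  (Nat.card π.ker : ℂ)⁻¹ * ∑ c, if π c = x then θ c else 0

theorem k0 : (Nat.card π.ker : ℂ) ≠ 0 := Nat.cast_ne_zero.mpr Nat.card_pos.ne'

theorem sum_fib (f : X → ℂ) :
    ∑ x, fib π θ x * f x = (Nat.card π.ker : ℂ)⁻¹ * ∑ c, θ c * f (π c) := by
  simp only [fib, mul_assoc, ← Finset.mul_sum, Finset.sum_mul]
  rw [Finset.sum_comm]
  congr 1
  refine Finset.sum_congr rfl fun c _ => ?_
  simp [ite_mul]

theorem fib_pi (c : C) : fib π θ (π c) = (Nat.card π.ker : ℂ)⁻¹ * ∑ n : π.ker, θ (c * n) := by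
  rw [fib, ← Equiv.sum_comp (Equiv.mulLeft c), sum_eq_sum_subgroup_add π.ker,
    add_eq_left.2 (Finset.sum_eq_zero fun g _ => ?_)]
  · congr 1
    refine Finset.sum_congr rfl fun n _ => ?_
    simp [MonoidHom.mem_ker.1 n.2]
  · split_ifs with h1 h2
    · rfl
    · exact absurd (by simpa using h2) h1
    · rfl

theorem fib_const {c : C} (h : ∀ n ∈ π.ker, θ (c * n) = θ c) : fib π θ (π c) = θ c := by
  rw [fib_pi, Finset.sum_congr rfl fun (n : π.ker) _ => h n n.2, Finset.sum_const, Finset.card_univ,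
    ← Nat.card_eq_fintype_card, nsmul_eq_mul, inv_mul_cancel_left₀ k0]

variable (hs : Function.Surjective π)
include hs

theorem card_eq : Nat.card C = Nat.card π.ker * Nat.card X := by
  rw [← card_mul_index π.ker, index_ker, MonoidHom.range_eq_top.2 hs, card_top]

theorem inner_fib (f : X → ℂ) : classInner θ (fun c => f (π c)) = classInner (fib π θ) f := by
  rw [classInner, classInner, sum_fib (fun x => conj (f x)), card_eq hs]
  push_cast
  rw [mul_inv, mul_comm (Nat.card π.ker : ℂ)⁻¹, mul_assoc]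

theorem fib_comp (f : X → ℂ) : fib π (fun c => f (π c)) = f := by
  funext x
  obtain ⟨c, rfl⟩ := hs x
  exact fib_const fun n hn => by simp [MonoidHom.mem_ker.1 hn]

theorem sum_comp (f : X → ℂ) : ∑ c, f (π c) = Nat.card π.ker * ∑ x, f x := by
  have := sum_fib (π := π) (θ := fun c => f (π c)) fun _ => 1
  simp only [fib_comp hs, mul_one] at this
  rw [this, mul_inv_cancel_left₀ k0]

theorem fib_class (hθ : IsClassFunction C θ) : IsClassFunction X (fib π θ) := by
  intro x k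
  obtain ⟨k, rfl⟩ := hs k
  simp only [fib]
  congr 1
  refine (Fintype.sum_equiv (MulAut.conj k).toEquiv _ _ fun c => ?_).symm
  simp [hθ c k]

theorem fib_char (hθ : IsCharacter C θ) : IsCharacter X (fib π θ) :=
  char_of_forall_nat (fib_class hs (char_isClassFunction hθ)) fun φ hφ => by
    rw [← inner_fib hs]
    exact char_classInner_nat hθ (char_comp (irr_isCharacter hφ) π)

/-- inflation -/
def infl (ψ : IrrCharacter X) : IrrCharacter C :=
  ⟨fun c => ψ.1 (π c), irr_comp_surjective ψ.2 π hs⟩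

theorem infl_inj : Function.Injective (infl hs) := fun a b e => Subtype.ext (funext fun x => by
  obtain ⟨c, rfl⟩ := hs x
  exact congrFun (congrArg Subtype.val e) c)

theorem P0_comp {k : ℂ} (hk : k ≠ 0)
    (h : ∀ f : X → ℂ, ∑ c, regInd 2 c * f (π c) = k * ∑ x, regInd 2 x * f x) {f : X → ℂ}
    (hf : IsClassFunction X f) (c : C) : P0 2 (fun c => f (π c)) c = P0 2 f (π c) := by
  have e : (fun c => f (π c)) = fun c => ∑ χ : IrrCharacter C,
      (∑ ψ, if infl hs ψ = χ then classInner f ψ else 0) * χ.1 c := by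
    funext c
    rw [classFun_apply_eq_sum hf]
    simp only [Finset.sum_mul]
    rw [Finset.sum_comm]
    refine Finset.sum_congr rfl fun ψ _ => ?_
    simp only [ite_mul, zero_mul, Finset.sum_ite_eq, Finset.mem_univ, if_true]
    rfl
  rw [e, P0_sum_irr, P0]
  simp only [Finset.sum_mul]
  rw [Finset.sum_comm, ← Finset.sum_filter_add_sum_filter_not Finset.univ (· ∈ B0 2 X),
    Finset.filter_mem_eq_inter, Finset.univ_inter, Finset.sum_eq_zero (s := Finset.filter _ _),
    add_zero]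
  · refine Finset.sum_congr rfl fun ψ hψ => ?_
    rw [Finset.sum_eq_single_of_mem (infl hs ψ) (by
      rw [mem_B0] at hψ ⊢; exact (h ψ.1).trans_ne (mul_ne_zero hk hψ)) fun χ _ e => by
      rw [if_neg e.symm, zero_mul], if_pos rfl]
    rfl
  · intro ψ hψ
    refine Finset.sum_eq_zero fun χ hχ => ?_
    rw [if_neg, zero_mul]
    rintro rfl
    rw [Finset.mem_filter, mem_B0, not_not] at hψ
    exact mem_B0.1 hχ ((h ψ.1).trans (by rw [hψ.2, mul_zero]))

variable (ho : Odd (Nat.card π.ker))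
include ho

theorem reg_iff {c : C} : Reg 2 (π c) ↔ Reg 2 c := by
  refine ⟨fun h => ?_, fun h => h.map π⟩
  obtain ⟨u, y, hu, hy, cm, e, -, -⟩ := exists_decomp (p := 2) c
  have e1 : π u = 1 := (Reg_mul_iff (hu.map π) (hy.map π) (cm.map π)).1 (by rwa [← map_mul, ← e])
  rw [e, eq_one_of_PElt_Reg hu (Reg_of_mem (odd_iff_cop.1 ho) e1), one_mul]
  exact hy

theorem reg_sum (f : X → ℂ) :
    ∑ c, regInd 2 c * f (π c) = Nat.card π.ker * ∑ x, regInd 2 x * f x := by
  rw [← sum_comp hs]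
  exact Finset.sum_congr rfl fun c _ => by simp only [regInd, reg_iff hs ho]

theorem P0_fib (hθ : IsClassFunction C θ) (c : C) : P0 2 θ c = P0 2 (fib π θ) (π c) := by
  rw [← P0_comp hs k0 (reg_sum hs ho) (fib_class hs hθ)]
  refine Finset.sum_congr rfl fun χ hχ => ?_
  have e : χ.1 = fun c => fib π χ.1 (π c) := funext fun c => (fib_const fun n hn => by
    rw [show c * n = c * n * c⁻¹ * c by group]
    exact B0_mul_of_normal (odd_iff_cop.1 ho) hχ ((MonoidHom.normal_ker π).conj_mem n hn c) c).symm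
  congr 1
  rw [e, inner_fib hs, inner_fib hs, fib_comp hs]

theorem zmem {z c : C} (hz : z * z = 1) (hc : ∀ c, c * z = z * c) (h : π z ∈ zpowers (π c)) :
    z ∈ zpowers c := by
  obtain ⟨m, hm⟩ := h
  have e1 : z * c ^ m ∈ π.ker := by
    rw [MonoidHom.mem_ker, map_mul, map_zpow, show π c ^ m = π z from hm, ← map_mul, hz, map_one]
  have e2 : c ^ m = z * (z * c ^ m) := by rw [← mul_assoc, hz, one_mul]
  have e3 : (c ^ m) ^ Nat.card π.ker = z := by
    obtain ⟨k, hk⟩ := ho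
    rw [e2, (show Commute z _ from (hc _).symm).mul_pow,
      orderOf_dvd_iff_pow_eq_one.1 (orderOf_dvd_natCard _ e1), hk, pow_succ, pow_mul, sq, hz,
      one_pow, one_mul, mul_one]
  exact e3 ▸ pow_mem (zpow_mem (mem_zpowers c) m) _

end Fib

section Gen

variable {G : Type*} [Group G] [Fintype G]

theorem P0_conv {f : G → ℂ} (hf : IsClassFunction G f) (g : G) :
    P0 2 (conv (regInd 2) f) g = conv (regInd 2) f g := by
  rw [classFun_apply_eq_sum (conv_class regInd_class hf), P0]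
  refine Finset.sum_subset (Finset.subset_univ _) fun χ _ hχ => ?_
  rw [mem_B0_iff_om, not_not] at hχ
  rw [classInner]
  simp only [irr_conj_eq]
  rw [sum_conv_mul, Finset.sum_eq_zero, mul_zero, zero_mul]
  intro k _
  rw [← Equiv.sum_comp (Equiv.inv G)]
  have e : ∀ h : G, regInd 2 (Equiv.inv G h) * χ.1 (Equiv.inv G h * k)⁻¹ =
      regInd 2 h * χ.1 (h * k⁻¹) := fun h => by
    rw [← irr_class χ (h * k⁻¹) k⁻¹]
    simp [regInd, Reg_inv, mul_assoc]
  simp only [e]
  rw [sum_class_mul regInd_class, hχ, zero_mul, mul_zero]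

theorem P0_smul (c : ℂ) (θ : G → ℂ) (g : G) : P0 2 (c • θ) g = c * P0 2 θ g := by
  simp only [P0, classInner_smul_left, Finset.mul_sum, mul_assoc]

theorem P0_one (g : G) : P0 2 (fun _ : G => (1 : ℂ)) g = 1 := P0_irr (χ := triv G) triv_mem_B0 g

/-- the column function -/
noncomputable def col (h g : G) : ℂ := ∑ c, if c * h = g * c then 1 else 0

theorem col_class (h : G) : IsClassFunction G (col h) := by
  have := class_sum_irr (G := G) fun χ => conj (χ.1 h)
  simp only [col_eq] at this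
  exact this

theorem KK_col (g h : G) : KK 2 g h = P0 2 (col h) g := by
  rw [KK_eq_P0]; simp only [col_eq]; rfl

theorem T_zero' {z u y : G} (hz : orderOf z = 2) (hu : PElt 2 u) (h : ∀ a, a * u * a⁻¹ ≠ u⁻¹)
    (hy : Reg 2 y) (c : Commute u y) : ∑ χ ∈ B0 2 G, χ.1 z ^ 2 / χ.1 1 * χ.1 (u * y) = 0 := by
  refine B0_sum_eq_zero (fun χ => χ.1 z ^ 2 / χ.1 1) hu (fun x hx c => ?_) hy c
  have e := pair_sum z (u * x)
  have : IsEmpty {p : G × G // IsConj z p.1 ∧ IsConj z p.2 ∧ p.1 * p.2 = (u * x)⁻¹} := by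
    refine ⟨fun ⟨⟨a, b⟩, h1, h2, h3⟩ => h a ?_⟩
    obtain ⟨c1, rfl⟩ := isConj_iff.1 h1
    obtain ⟨c2, rfl⟩ := isConj_iff.1 h2
    have a1 := iinv (iconj hz c1)
    have a2 := iinv (iconj hz c2)
    generalize c1 * z * c1⁻¹ = a at *
    generalize c2 * z * c2⁻¹ = b at *
    refine ppart_unique (hu.conj a) ((Reg_conj a).2 hx) (c.conj a) hu.inv (Reg_inv.2 hx) c.inv_inv ?_
    have e1 : u * x = b * a := by rw [← inv_inv (u * x), ← h3, mul_inv_rev, a1, a2]
    rw [conj_mul, e1, ← mul_inv_rev, ← c.eq, ← h3]; group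
  rw [Nat.card_of_isEmpty, Nat.cast_zero] at e
  exact (mul_eq_zero.1 e.symm).resolve_left
    (div_ne_zero (pow_ne_zero _ (cl_ne z)) card_ne_zero_complex)

end Gen

variable {G X : Type*} [Group G] [Fintype G] [Group X] [Fintype X] {z : G} {π : Cen1 z →* X}
  {ζ x y : X}

/-- `X = C(z) / O` -/
structure QS (z : G) (π : Cen1 z →* X) (ζ : X) : Prop where
  oz : orderOf z = 2
  hs : Function.Surjective π
  odd : Odd (Nat.card π.ker)
  hz : π ⟨z, c1.2 rfl⟩ = ζ

/-- the averaged character -/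
noncomputable def val (π : Cen1 z →* X) (χ : G → ℂ) : X → ℂ := fib π fun c => χ c

namespace QS

variable (h : QS z π ζ)
include h

theorem char {χ : G → ℂ} (hχ : IsCharacter G χ) : IsCharacter X (val π χ) :=
  fib_char h.hs (char_restrict hχ _)

theorem zm {g : Cen1 z} (hg : ζ ∈ zpowers (π g)) : z ∈ zpowers (g : G) := by
  obtain ⟨m, hm⟩ := zmem h.hs h.odd (z := ⟨z, c1.2 rfl⟩) (Subtype.ext (ii h.oz))
    (fun c => Subtype.ext (c1.1 c.2)) (h.hz ▸ hg)
  exact ⟨m, congrArg Subtype.val hm⟩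

omit h in
theorem zm2 {u y : G} (hz : orderOf z = 2) (hu : PElt 2 u) (hy : Reg 2 y) (c : Commute u y)
    (hm : z ∈ zpowers (u * y)) : z ∈ zpowers u := by
  obtain ⟨m, hm⟩ := hm
  exact ⟨m, (ppart_unique (p := 2) (PElt_of_orderOf (k := 1) hz) Reg_one
    (Commute.one_right z) (hu.zpow m) (hy.zpow m) (c.zpow_zpow m m)
    (by rw [mul_one, ← c.mul_zpow]; exact hm.symm)).symm⟩

theorem P0q {θ : G → ℂ} (hθ : IsClassFunction G θ) {g : Cen1 z} (hg : ζ ∈ zpowers (π g)) :
    P0 2 θ g = P0 2 (val π θ) (π g) := by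
  obtain ⟨u, y, hu, hy, c, e, h1, h2⟩ := exists_decomp (p := 2) (g : G)
  rw [val, ← P0_fib h.hs h.odd (class_res hθ _), e]
  obtain ⟨m, hm⟩ := zm2 h.oz hu hy c (e ▸ h.zm hg)
  exact P0_subgroup hθ _ hu hy c (zpowers_le.2 g.2 h1)
    (fun k hk => c1.2 (hm ▸ (Commute.zpow_right (c1.1 hk) m).eq)) _ e

theorem val_eq {χ : IrrCharacter G} (hχ : χ ∈ B0 2 G) {g : Cen1 z} (hg : ζ ∈ zpowers (π g)) :
    val π χ.1 (π g) = χ.1 g := fib_const (θ := fun c : Cen1 z => χ.1 c) fun n hn => by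
  have e : π (g * n) = π g := by rw [map_mul, MonoidHom.mem_ker.1 hn, mul_one]
  rw [← P0_irr hχ, ← P0_irr hχ g, h.P0q (irr_class χ) hg, h.P0q (irr_class χ) (e ▸ hg), e]

theorem val_z {χ : IrrCharacter G} (hχ : χ ∈ B0 2 G) : val π χ.1 ζ = χ.1 z := by
  have := h.val_eq hχ (g := ⟨z, c1.2 rfl⟩) (h.hz ▸ mem_zpowers _)
  rwa [h.hz] at this

theorem P0_val {χ : IrrCharacter G} (hχ : χ ∈ B0 2 G) (hx : ζ ∈ zpowers x) :
    P0 2 (val π χ.1) x = val π χ.1 x := by
  obtain ⟨g, rfl⟩ := h.hs x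
  rw [← h.P0q (irr_class χ) hx, P0_irr hχ, h.val_eq hχ hx]

theorem val_triv (x : X) : val π (triv G).1 x = 1 := by
  obtain ⟨g, rfl⟩ := h.hs x
  exact fib_const (θ := fun c : Cen1 z => (triv G).1 c) fun n hn => rfl

theorem oζ : orderOf ζ = 2 := by
  rw [← h.hz]
  refine orderOf_eq_prime (by rw [← map_pow, sq, show (⟨z, c1.2 rfl⟩ * ⟨z, c1.2 rfl⟩ : Cen1 z) = 1
    from Subtype.ext (ii h.oz), map_one]) fun e => ?_
  exact not_mem_odd h.odd (by rw [← orderOf_coe]; exact h.oz) e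

theorem kk (hx : ζ ∈ zpowers x) (hy : ζ ∈ zpowers y) :
    ∑ χ ∈ B0 2 G, val π χ.1 x * conj (val π χ.1 y) = KK 2 x y := by
  obtain ⟨g, rfl⟩ := h.hs x
  obtain ⟨k, rfl⟩ := h.hs y
  rw [Finset.sum_congr rfl fun χ hχ => by rw [h.val_eq hχ hx, h.val_eq hχ hy]]
  change KK 2 (g : G) k = _
  obtain ⟨u, y, hu, hy', c, e, h1, h2⟩ := exists_decomp (p := 2) (π g)
  rw [KK_col, KK_col, h.P0q (col_class _) hx, e]
  refine P0_congr (fib_class h.hs (class_res (col_class _) _)) (col_class _) hu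
    (fun w hw cw => ?_) hy' c
  have hm : ζ ∈ zpowers (u * w) := by
    obtain ⟨N, hN⟩ := exists_zpow_eq_ppart (G := X) (p := 2) (k := 1) not_p_dvd_one
    have := hN u w hu hw cw
    rw [zpow_one] at this
    exact zpowers_le.2 (show u ∈ zpowers (u * w) from ⟨N, this⟩) (zm2 h.oζ hu hy' c (e ▸ hx))
  generalize u * w = x at hm
  have e1 : ∀ c : Cen1 z, π c = x → col (k : G) c = col k c := fun c hc => by
    rw [col, col, sum_eq_sum_subgroup_add (Cen1 z),
      add_eq_left.2 (Finset.sum_eq_zero fun a _ => ?_)]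
    · refine Finset.sum_congr rfl fun a _ => ?_
      simp only [Subtype.ext_iff, coe_mul]
    split_ifs with h1 h2
    · rfl
    · refine absurd (c1.2 (mul_inv_eq_iff_eq_mul.1 ?_)) h1
      refine inv_uniq ?_ (h.zm (hc ▸ hm)) (iconj h.oz a) h.oz
      obtain ⟨m, hm⟩ := h.zm hy
      exact ⟨m, by simp only [← mul_inv_eq_iff_eq_mul.2 h2, conj_zpow]; exact congrArg (a * · * a⁻¹) hm⟩
    · rfl
  rw [fib, Finset.sum_congr rfl (g := fun c => ∑ a : Cen1 z,
    if c = a * k * a⁻¹ then (if π a * π k = x * π a then (1 : ℂ) else 0) else 0) fun c _ => ?_,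
    Finset.sum_comm]
  · simp only [Finset.sum_ite_eq', Finset.mem_univ, if_true]
    rw [sum_comp h.hs fun a => if a * π k = x * a then (1 : ℂ) else 0, inv_mul_cancel_left₀ k0, col]
  · split_ifs with hc
    · rw [e1 c hc, col]
      refine Finset.sum_congr rfl fun a _ => ?_
      by_cases e : c = a * k * a⁻¹
      · rw [if_pos e, if_pos (by rw [e]; group), if_pos (by rw [← hc, e]; simp)]
      · rw [if_neg e, if_neg fun e' => e (by rw [e']; group)]
    · refine (Finset.sum_eq_zero fun a _ => ?_).symm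
      split_ifs with e e'
      · exact absurd (by rw [e, map_mul, map_mul, e', map_inv]; group) hc
      · rfl
      · rfl

theorem deg0 (hx : ζ ∈ zpowers x) : ∑ χ ∈ B0 2 G, χ.1 1 * val π χ.1 x = 0 := by
  obtain ⟨g, rfl⟩ := h.hs x
  obtain ⟨u, y, hu, hy, c, e, h1, h2⟩ := exists_decomp (p := 2) (g : G)
  rw [Finset.sum_congr rfl fun χ hχ => by rw [h.val_eq hχ hx, e]]
  refine B0_sum_eq_zero (fun χ => χ.1 1) hu (fun w hw cw => ?_) hy c
  refine (Finset.sum_congr rfl fun χ _ => mul_comm _ _).trans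
    (sum_irr_mul_degree_of_ne_one fun e' => ine h.oz ?_)
  have := zm2 h.oz hu hy c (e ▸ h.zm hx)
  rwa [(Reg_mul_iff hu hw cw).1 (e' ▸ Reg_one), zpowers_one_eq_bot, mem_bot] at this

theorem T0 {u w : X} (hu : PElt 2 u) (hw : Reg 2 w) (c : Commute u w) (hx : ζ ∈ zpowers (u * w))
    (hn : ∀ a, a * u * a⁻¹ ≠ u⁻¹) :
    ∑ χ ∈ B0 2 G, χ.1 z ^ 2 / χ.1 1 * val π χ.1 (u * w) = 0 := by
  obtain ⟨g, hg⟩ := h.hs (u * w)
  obtain ⟨v, y, hv, hy, c', e, h1, h2⟩ := exists_decomp (p := 2) g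
  have e1 : π v = u := ppart_unique (hv.map π) (hy.map π) (c'.map π) hu hw c
    (by rw [← map_mul, ← e, hg])
  rw [← hg] at hx ⊢
  rw [Finset.sum_congr rfl fun χ hχ => by rw [h.val_eq hχ hx, e]]
  have c2 : Commute (v : G) y := congrArg Subtype.val c'.eq
  refine T_zero' h.oz (PElt_coe.2 hv) (fun a ha => ?_) (Reg_coe.2 hy) c2
  obtain ⟨m, hm⟩ := zm2 h.oz (PElt_coe.2 hv) (Reg_coe.2 hy) c2 (by
    have := h.zm hx; rwa [e] at this)
  have hm' : (v : G) ^ m = z := hm
  have aC : a ∈ Cen1 z := c1.2 (mul_inv_eq_iff_eq_mul.1 (by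
    rw [← hm', ← conj_zpow, ha, inv_zpow, hm', iinv h.oz]))
  refine hn (π ⟨a, aC⟩) ?_
  rw [← e1, ← map_inv, ← map_mul, ← map_mul, ← map_inv]
  exact congrArg _ (Subtype.ext ha)

end QS

end CK
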