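import Cfsg.Agent.CK.A

/-! Characters restricted to `W S`; the case `C(z) / O = GL₂(3)`. -/

set_option autoImplicit false
set_option linter.unusedVariables false
set_option linter.unusedSectionVars false

namespace CK

open Cfsg Subgroup H8 L GW Z6
open H9 (glI glJ glU glT card_GL23)
open FT (Cen1 Nor)
open scoped ComplexConjugate Classical

variable {G : Type*} [Group G] [Fintype G] {S W : Subgroup G} {z : G}

theorem ex_inv {s : G} (hs : PElt 2 s) (h1 : s ≠ 1) : ∃ t ∈ zpowers s, orderOf t = 2 := by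
  obtain ⟨t, ht, tt, t1, -⟩ := H5.Dich.exists_central hs.isPGroup_zpowers (by simpa using h1)
  exact ⟨t, ht, orderOf_eq_prime (by rw [sq, tt]) t1⟩

theorem coset_const (hW : Odd (Nat.card W)) {s n : G} (hs : PElt 2 s) (h1 : s ≠ 1)
    (hn : s ∈ Nor W) (hc : ∀ t ∈ zpowers s, orderOf t = 2 → W ⊓ Cen1 t ≤ Uo t) (hnW : n ∈ W)
    {χ : IrrCharacter G} (hχ : χ ∈ B0 2 G) : χ.1 (s * n) = χ.1 s := by
  obtain ⟨u, y, hu, hy, c, e, h2, h3⟩ := exists_decomp (p := 2) (s * n)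
  have cop : ∀ {a : G}, PElt 2 a → (Nat.card (zpowers a)).Coprime (Nat.card W) := fun ha => by
    obtain ⟨k, hk⟩ := (IsPGroup.iff_card (p := 2)).1 ha.isPGroup_zpowers
    rw [hk]; exact (odd_iff_cop.1 hW).symm.pow_left k
  have gN : s * n ∈ Nor W := mul_mem hn (le_normalizer hnW)
  have uN := zpowers_le.2 gN h2
  have yN := zpowers_le.2 gN h3
  have : (W.subgroupOf (Nor W)).Normal := normal_in_normalizer
  let f := QuotientGroup.mk' (W.subgroupOf (Nor W))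
  have fk : ∀ a : Nor W, f a = 1 ↔ (a : G) ∈ W := fun a => QuotientGroup.eq_one_iff a
  have e1 : f ⟨s, hn⟩ = f ⟨u, uN⟩ * f ⟨y, yN⟩ := by
    rw [← mul_one (f _), ← (fk ⟨n, le_normalizer hnW⟩).2 hnW, ← map_mul, ← map_mul]
    exact congrArg f (Subtype.ext e)
  have e2 : f ⟨s, hn⟩ = f ⟨u, uN⟩ := ppart_unique ((PElt_coe.1 hs).map f) Reg_one
    (Commute.one_right _) ((PElt_coe.1 hu).map f) ((Reg_coe.1 hy).map f)
    ((show Commute (⟨u, uN⟩ : Nor W) ⟨y, yN⟩ from Subtype.ext c.eq).map f) (by rw [mul_one, e1])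
  have yW : y ∈ W := (fk ⟨y, yN⟩).1 (by rwa [← e2, left_eq_mul] at e1)
  obtain ⟨k, hk, e3⟩ := H5.exists_conj_le (zpowers_le.2 hn) (cop hs) (Or.inl (solv_zp s))
    (B := zpowers u) ((zpowers_le.2 h2).trans (zpowers_le.2 (mul_mem (mem_sup_right
      (mem_zpowers s)) (mem_sup_left hnW)))) (cop hu)
  have e4 : k * u * k⁻¹ ∈ zpowers s := e3 ⟨u, mem_zpowers u, rfl⟩
  have e5 : k * u * k⁻¹ = s := by
    have kN := le_normalizer hk
    have m : (k * u * k⁻¹)⁻¹ * s ∈ W := (fk ((⟨k, kN⟩ * ⟨u, uN⟩ * ⟨k, kN⟩⁻¹)⁻¹ * ⟨s, hn⟩)).1 (by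
      simp only [map_mul, map_inv, (fk ⟨k, kN⟩).2 hk, e2]; group)
    exact inv_mul_eq_one.1 (eq_one_of_PElt_Reg (PElt_of_mem hs.isPGroup_zpowers
      (mul_mem (inv_mem e4) (mem_zpowers s))) (Reg_of_mem (odd_iff_cop.1 hW) m))
  obtain ⟨t, ht, ot⟩ := ex_inv hs h1
  have le : Cen1 s ≤ Cen1 t := fun g hg => c1s.1 (zpowers_le.2 (c1s.1 hg) ht)
  have y1 : k * y * k⁻¹ ∈ Cen1 s := c1.2 (by rw [← e5, conj_mul, conj_mul, c.eq])
  have : ((Uo t).subgroupOf (Cen1 s)).Normal :=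
    ⟨fun a ha g => mem_subgroupOf.2 (cmem (nUo t (le g.2)) (mem_subgroupOf.1 ha))⟩
  rw [← irr_class χ _ k, e, ← conj_mul, e5]
  refine B0_apply_mul' (N := (Uo t).subgroupOf (Cen1 s)) hs ?_ hχ (n := ⟨_, y1⟩)
    (hc t ht ot ⟨cmem (le_normalizer hk) yW, le y1⟩)
  rw [← inf_subgroupOf_right, Nat.card_congr (subgroupOfEquivOfLe inf_le_right).toEquiv]
  exact odd_iff_cop.1 (odd_of_le inf_le_left (odd_Oo _))

theorem free [IsSimpleGroup G] (hG : ¬ IsMulCommutative G) (hS : IsPGroup 2 S)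
    (hW : Odd (Nat.card W)) (hn : S ≤ Nor W) (h0 : W ≠ ⊥)
    (hc : ∀ t ∈ S, orderOf t = 2 → W ⊓ Cen1 t ≤ Uo t) {χ : IrrCharacter G} (hχ : χ ∈ B0 2 G)
    (h1 : χ ≠ triv G) : ∃ ψ : S → ℂ, IsCharacter S ψ ∧ (∀ s : S, s ≠ 1 → ψ s = χ.1 s) ∧
      ∃ d : ℕ, ψ 1 = d ∧ d + Nat.card S ≤ deg χ := by
  have : (W.subgroupOf (Nor W)).Normal := normal_in_normalizer
  let f := QuotientGroup.mk' (W.subgroupOf (Nor W))
  have fk : f.ker = W.subgroupOf (Nor W) := QuotientGroup.ker_mk' _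
  have ch := irr_isCharacter χ.2
  have a1 := char_comp (fib_char (QuotientGroup.mk'_surjective _) (char_restrict ch (Nor W)) :
    IsCharacter _ (fib f _)) (f.comp (inclusion hn))
  have a2 : ∀ s : S, s ≠ 1 → fib f (fun c : Nor W => χ.1 c) (f (inclusion hn s)) = χ.1 s :=
    fun s hs => fib_const (θ := fun c : Nor W => χ.1 c) fun n hn' => coset_const hW
      (PElt_of_mem hS s.2) (fun e => hs (Subtype.ext e)) (hn s.2)
      (fun t ht => hc t (zpowers_le.2 s.2 ht)) (mem_subgroupOf.1 (fk ▸ hn')) hχ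
  refine ⟨_, a1, a2, ?_⟩
  obtain ⟨d, hd⟩ := char_apply_one a1
  refine ⟨d, hd, ?_⟩
  obtain ⟨m1, e1⟩ := char_classInner_nat (char_restrict ch S) char_one
  obtain ⟨m2, e2⟩ := char_classInner_nat a1 char_one
  have e3 : (deg χ : ℂ) - d = Nat.card S * (m1 - m2) := by
    rw [← e1, ← e2, ← classInner_sub_left, classInner, mul_inv_cancel_left₀ card_ne_zero_complex,
      Finset.sum_eq_single 1 (fun s _ hs => by simp [sub_eq_zero, ← a2 s hs]) (by simp), ← hd,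
      ← deg_eq]
    simp
  have e4 : (deg χ : ℤ) - d = Nat.card S * (m1 - m2) := by exact_mod_cast e3
  have lt : d < deg χ := by
    obtain ⟨o, ho⟩ := ne_bot_iff_exists_ne_one.1 h0
    have b4 : ∑ n : f.ker, χ.1 n = Nat.card f.ker * d := by
      rw [← hd]
      simp only [map_one]
      rw [← map_one f, fib_pi, mul_inv_cancel_left₀ k0]
      simp only [one_mul]
      congr!
    have b5 : ∑ n : f.ker, ‖χ.1 n‖ < ∑ n : f.ker, ‖χ.1 1‖ :=
      Finset.sum_lt_sum (fun o _ => char_norm_le ch _) ⟨⟨⟨o, le_normalizer o.2⟩, fk.ge o.2⟩,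
        Finset.mem_univ _, lt_of_le_of_ne (char_norm_le ch _) fun e => ho (Subtype.ext
          (irr_norm_ne_of_simple hG χ.2 (fun e => h1 (Subtype.ext e)) e))⟩
    have b6 := (norm_sum_le _ _).trans_lt b5
    rw [b4, deg_eq, Finset.sum_const, Finset.card_univ, ← Nat.card_eq_fintype_card, nsmul_eq_mul,
      ← Nat.cast_mul, Complex.norm_natCast, Complex.norm_natCast, ← Nat.cast_mul, Nat.cast_lt] at b6
    exact lt_of_mul_lt_mul_left b6 (Nat.zero_le _)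
  have : (0 : ℤ) < m1 - m2 := 
    (mul_pos_iff_of_pos_left (a := (Nat.card S : ℤ)) (by exact_mod_cast Nat.card_pos)).1 (by omega)
  have : (Nat.card S : ℤ) * 1 ≤ Nat.card S * (m1 - m2) :=
    mul_le_mul_of_nonneg_left (by omega) (by positivity)
  omega

theorem QS.lift2 {X : Type*} [Group X] [Fintype X] {π : Cen1 z →* X} {ζ x : X} (h : QS z π ζ)
    (hx : PElt 2 x) : ∃ u, π u = x ∧ ∀ n : ℕ, x ^ n = 1 → u ^ n = 1 := by
  obtain ⟨g, rfl⟩ := h.hs x
  obtain ⟨u, y, hu, hy, c, e, -, -⟩ := exists_decomp (p := 2) g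
  have e1 : π u = π g := ppart_unique (hu.map π) (hy.map π) (c.map π) hx Reg_one
    (Commute.one_right _) (by rw [← map_mul, ← e, mul_one])
  exact ⟨u, e1, fun n hn => eq_one_of_PElt_Reg (hu.pow n) (Reg_of_mem (odd_iff_cop.1 h.odd)
    (by rw [MonoidHom.mem_ker, map_pow, e1, hn]))⟩

theorem QS.deg_cong {X : Type*} [Group X] [Fintype X] {π : Cen1 z →* X} {ζ x : X} (h : QS z π ζ)
    {χ : IrrCharacter G} (hχ : χ ∈ B0 2 G) (hx : PElt 2 x) {n : ℕ} (hn : x ^ (n + 1) = 1)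
    (hk : ∀ k, 0 < k → k < n + 1 → ζ ∈ zpowers (x ^ k)) :
    ∃ m : ℤ, χ.1 1 - val π χ.1 1 = (n + 1 : ℕ) * m := by
  obtain ⟨u, rfl, hu⟩ := h.lift2 hx
  obtain ⟨m1, e1⟩ := four (char_restrict (irr_isCharacter χ.2) (Cen1 z)) (hu _ hn) (one_pow _)
  obtain ⟨m2, e2⟩ := four (h.char (irr_isCharacter χ.2)) hn (one_pow _)
  rw [Finset.sum_range_succ'] at e1 e2
  rw [Finset.sum_congr rfl fun k hk' => by rw [← map_pow, h.val_eq hχ (by
    rw [map_pow]; exact hk _ k.succ_pos (by simpa using hk'))]] at e2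
  refine ⟨m1 - m2, ?_⟩
  simp only [pow_zero, OneMemClass.coe_one] at e1 e2
  push_cast at e1 e2 ⊢
  linear_combination e1 - e2

theorem P0_all {X : Type*} [Group X] [Fintype X] (h : ∀ χ, χ ∈ B0 2 X) {θ : X → ℂ}
    (hθ : IsClassFunction X θ) (x : X) : P0 2 θ x = θ x := by
  rw [classFun_apply_eq_sum hθ, P0, Finset.eq_univ_iff_forall.2 h]

theorem sum_lin' {B : Finset (IrrCharacter G)} {n : IrrCharacter G → ℂ} {u : Fin 5 → ℂ}
    {v : IrrCharacter G → Fin 5 → ℂ} (hn : ∀ χ, n χ = ∑ i, u i * v χ i) (f : IrrCharacter G → ℂ) :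
    ∑ χ ∈ B, n χ * f χ = ∑ i, u i * ∑ χ ∈ B, f χ * v χ i := by
  simp only [hn, Finset.sum_mul, Finset.mul_sum]
  rw [Finset.sum_comm]
  exact Finset.sum_congr rfl fun i _ => Finset.sum_congr rfl fun χ _ => by ring

theorem small1 [IsSimpleGroup G] (hG : ¬ IsMulCommutative G) [Fintype GL23] {π : Cen1 z →* GL23}
    (h : QS z π (glI ^ 2)) : ∃ χ ∈ B0 2 G, χ ≠ triv G ∧ deg χ < 16 := by
  obtain ⟨ζ, hζ⟩ := IsAlgClosed.exists_pow_nat_eq (-1 : ℂ) four_pos
  have hδ : (ζ + ζ ^ 3) ^ 2 = -2 := by linear_combination (ζ ^ 2 + 2) * hζ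
  have ch := fun χ : IrrCharacter G => h.char (irr_isCharacter χ.2)
  choose n hn using fun (k : Fin 5) (χ : IrrCharacter G) => ints (ch χ) hζ k
  have m1 : ∀ i, glI ^ 2 ∈ zpowers (R5 i) := fun i => by
    obtain ⟨m, hm, -⟩ := R5_pow i
    exact hm ▸ pow_mem (mem_zpowers _) _
  have BB : ∀ i j, ∑ χ ∈ B0 2 G, val π χ.1 (R5 i) * val π χ.1 (R5 j) = tb i j := fun i j => by
    have := h.kk (m1 i) (y := (R5 j)⁻¹) (by rw [zpowers_inv]; exact m1 j)
    simp only [char_conj_eq (ch _), inv_inv] at this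
    rw [this, KK_col, P0_all (fun χ => mem_B0.2 (B0_X χ)) (col_class _), col,
      ← R5_cnt, ← card_wd fun c => c * (R5 j)⁻¹ = R5 i * c, Nat.card_eq_fintype_card,
      Fintype.card_subtype, ← Finset.sum_boole]
    congr!
  have gram : ∀ k l, ∑ χ ∈ B0 2 G, n k χ * n l χ = GM k l := fun k l => by
    have : ((∑ χ ∈ B0 2 G, n k χ * n l χ : ℤ) : ℂ) = GM k l := by
      push_cast
      rw [sum_lin' (hn k), ← gm_eq hδ]
      refine Finset.sum_congr rfl fun i _ => ?_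
      rw [sum_lin' (hn l)]
      simp only [BB]
    exact_mod_cast this
  have tr : ∀ k, n k (triv G) = ![0, 0, 1, 0, 1] k := fun k => by
    have : (n k (triv G) : ℂ) = (![0, 0, 1, 0, 1] k : ℤ) := by
      rw [hn]
      simp only [h.val_triv]
      fin_cases k <;> simp [Z6.UU, Fin.sum_univ_five] <;> ring
    exact_mod_cast this
  have va : ∀ χ : IrrCharacter G, val π χ.1 (glI ^ 2) =
      2 * n 0 χ + 2 * n 1 χ + 3 * n 2 χ + 3 * n 3 χ - 2 * n 4 χ ∧
      val π χ.1 glI = 2 * n 4 χ - n 2 χ - n 3 χ ∧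
      val π χ.1 g8 + val π χ.1 g8⁻¹ = 2 * (n 2 χ - n 3 χ) := fun χ => by
    simp only [hn]
    simp [Z6.UU, R5, Fin.sum_univ_five]
    refine ⟨?_, ?_, ?_⟩ <;> ring
  obtain ⟨E, hE, F, hF, C, hC, K, hK, A, hA, e, f, g, k, a, e1, f1, g1, k1, a1, rE, rF, rC, rK, rA,
    S⟩ := pattern triv_mem_B0 (tr 0) (tr 1) (tr 2) (tr 3) (tr 4) (gram 0 0) (gram 1 1) (gram 2 2)
      (gram 3 3) (gram 4 4) (gram 0 1) (gram 2 0) (gram 2 1) (gram 3 0) (gram 3 1) (gram 4 0)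
      (gram 4 1) (gram 2 3) (gram 2 4) (gram 3 4)
  have D : ∀ k, ∑ χ ∈ B0 2 G, (n k χ : ℂ) * χ.1 1 = 0 := fun k => by
    rw [sum_lin' (hn k)]; simp only [h.deg0 (m1 _), mul_zero, Finset.sum_const_zero]
  obtain ⟨d3, d4, d5⟩ := S fun χ => χ.1 1
  rw [D] at d3 d4 d5
  simp only [deg_eq, triv_apply] at d3 d4 d5
  obtain ⟨t3, t4, -⟩ := S fun χ => χ.1 z ^ 2 / χ.1 1
  have T : ∀ k, ∑ χ ∈ B0 2 G, (n k χ : ℂ) * (χ.1 z ^ 2 / χ.1 1) = _ := fun k => sum_lin' (hn k) _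
  rw [T] at t3 t4
  have vE : E.1 z = 4 * e := by rw [← h.val_z hE, (va E).1]; simp [rE]; ring
  have vF : F.1 z = 3 * f := by rw [← h.val_z hF, (va F).1]; simp [rF]
  have vC : C.1 z = g := by rw [← h.val_z hC, (va C).1]; simp [rC]; ring
  have vK : K.1 z = 3 * k := by rw [← h.val_z hK, (va K).1]; simp [rK]
  have vA : A.1 z = 2 * a := by rw [← h.val_z hA, (va A).1]; simp [rA]
  have sg : ∀ (ε : ℤ) (c : ℂ) (χ : IrrCharacter G), ε * ε = 1 →
      ε * ((c * ε) ^ 2 / deg χ) = c ^ 2 / (ε * deg χ : ℤ) := fun ε c χ hε => by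
    rcases pm hε with rfl | rfl <;> simp [div_neg]
  have sz : ∀ (ε : ℤ) (χ : IrrCharacter G), ε * ε = 1 → ε * deg χ ≠ 0 := fun ε χ hε => by
    have := deg_pos χ
    rcases pm hε with rfl | rfl <;> omega
  rw [← one_mul (g : ℂ)] at vC
  have p8 : PElt 2 g8 := ⟨3, x_rel.2.2.2.2.2.2.1⟩
  have k8 : ∀ a, a * g8 * a⁻¹ ≠ g8⁻¹ := fun a e => by
    obtain ⟨q, rfl⟩ := wd_surj a
    exact nr8 q (mul_inv_eq_iff_eq_mul.1 e)
  have T3 := h.T0 p8 Reg_one (Commute.one_right _) (by rw [mul_one]; exact m1 3) k8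
  have T4 := h.T0 p8.inv Reg_one (Commute.one_right _) (by rw [mul_one]; exact m1 4)
    fun a e => k8 a (by rw [← inv_inj, ← e]; group)
  rw [mul_one] at T3 T4
  simp only [Z6.UU, R5, Fin.sum_univ_five, Matrix.cons_val, T3, T4, vE, vF, vC, vK, deg_eq E, deg_eq F,
    deg_eq C, deg_eq K, triv_apply, sg _ _ _ e1, sg _ _ _ f1, sg _ _ _ g1, sg _ _ _ k1] at t3 t4
  have nE : E ≠ triv G := fun e' => by
    have := rE.2.2.2.1; rw [e', tr] at this; simp [← this] at e1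
  have nC : C ≠ triv G := fun e' => by
    have := rC.2.2.2.1; rw [e', tr] at this; simp [← this] at g1
  have nA : A ≠ triv G := fun e' => by
    have := rA.1; rw [e', tr] at this; simp [← this] at a1
  have q3 : 1 + e * deg E + f * deg F = 0 := by exact_mod_cast d3.symm
  have num := numer (sz e E e1) (sz f F f1) (sz g C g1) (sz k K k1) (a := a * deg A) (fun e' => ?_)
    (fun e' => ?_) ?_ q3 (by exact_mod_cast d4.symm) (by exact_mod_cast d5.symm)
    (by linear_combination t4 - t3)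
  · rcases num with ⟨b1, b2⟩ | ⟨b1, b2⟩
    · exact ⟨A, hA, nA, by rcases pm a1 with rfl | rfl <;> omega⟩
    · exact ⟨E, hE, nE, by rcases pm e1 with rfl | rfl <;> omega⟩
  · have : deg C = 1 := by rcases pm g1 with rfl | rfl <;> omega
    refine nC (Subtype.ext (char_eq_one_of_perfect ?_ (irr_isCharacter C.2) (by rw [deg_eq, this]; simp)))
    exact commutator_eq_top_of_simple hG
  · have : deg A = 2 ∧ a = 1 := by rcases pm a1 with rfl | rfl <;> omega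
    exact ine h.oz (irr_faithful_of_simple A.2 (fun e => nA (Subtype.ext e))
      (by rw [vA, deg_eq, this.1, this.2]; simp))
  · obtain ⟨m, hm⟩ := f8 (ch A) (ω := 1) (by norm_num)
    obtain ⟨m', hm'⟩ := h.deg_cong hA p8 (n := 7) x_rel.2.2.2.2.2.2.1 fun k h1 h2 => by
      refine ⟨if k % 2 = 1 then 4 else if k % 4 = 2 then 2 else 1, ?_⟩
      interval_cases k <;> decide +kernel
    obtain ⟨-, v2, v3⟩ := va A
    simp only [rA, deg_eq, h.val_z hA, vA] at v2 v3 hm hm'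
    have : (deg A : ℂ) + 6 * a = 8 * (m + m') := by
      push_cast at v2 v3 hm'; linear_combination hm - 2 * v2 - 2 * v3 + hm'
    have : (deg A : ℤ) + 6 * a = 8 * (m + m') := by exact_mod_cast this
    rcases pm a1 with rfl | rfl <;> omega

end CK
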