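import Cfsg.Agent.CK.B

/-! Sums over small groups; the principal 2-block of `S₅`; central 2-kernels. -/

set_option autoImplicit false
set_option linter.unusedVariables false
set_option linter.unusedSectionVars false

namespace CK

open Cfsg Subgroup H8 L GW Z6 Equiv
open FT (Cen1 Nor)
open scoped ComplexConjugate Classical

/-- the map from a cyclic group -/
def zm {M : Type*} [Monoid M] {m : ℕ} (x : M) (hx : x ^ (m + 1) = 1) :
    Multiplicative (Fin (m + 1)) →* M where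
  toFun i := x ^ i.toAdd.val
  map_one' := pow_zero x
  map_mul' i j := by rw [toAdd_mul, Fin.val_add, ← pow_eq_pow_mod _ hx, pow_add]

theorem sum_hom {Γ X : Type*} [Group Γ] [Fintype Γ] [Group X] {φ : X → ℂ} (hφ : IsCharacter X φ)
    (f : Γ →* X) (l : Γ →* ℂ) : ∃ k : ℕ, ∑ g, φ (f g) * l g = Fintype.card Γ * k := by
  obtain ⟨k, hk⟩ := char_classInner_nat (char_mul (char_comp hφ f)
    (irr_isCharacter (irr_mul_hom irr_one l))) char_one
  refine ⟨k, ?_⟩
  rw [← hk, classInner, ← Nat.card_eq_fintype_card, mul_inv_cancel_left₀ card_ne_zero_complex]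
  simp

theorem four2 {X : Type*} [Group X] {φ : X → ℂ} (hφ : IsCharacter X φ) {x y : X} {m n : ℕ}
    (c : Commute x y) (hx : x ^ (m + 1) = 1) (hy : y ^ (n + 1) = 1) {α β : ℂ}
    (hα : α ^ (m + 1) = 1) (hβ : β ^ (n + 1) = 1) : ∃ k : ℕ, ∑ i : Fin (m + 1), ∑ j : Fin (n + 1),
      φ (x ^ i.1 * y ^ j.1) * (α ^ i.1 * β ^ j.1) = (m + 1) * (n + 1) * k := by
  obtain ⟨k, hk⟩ := sum_hom hφ ((zm x hx).noncommCoprod (zm y hy) fun _ _ => c.pow_pow _ _)
    ((zm α hα).coprod (zm β hβ))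
  refine ⟨k, ?_⟩
  rw [Fintype.sum_prod_type] at hk
  simp only [Fintype.card_prod, Fintype.card_multiplicative, Fintype.card_fin] at hk
  push_cast at hk
  rw [← hk]
  exact (Fintype.sum_equiv Multiplicative.ofAdd _ _ fun i =>
    Fintype.sum_equiv Multiplicative.ofAdd _ _ fun j => rfl)

/-- the wreathed group of order 32 -/
def Wr := Fin 4 × Fin 4 × Fin 2

instance : DecidableEq Wr := inferInstanceAs (DecidableEq (Fin 4 × Fin 4 × Fin 2))
instance : Fintype Wr := inferInstanceAs (Fintype (Fin 4 × Fin 4 × Fin 2))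
instance : Mul Wr := ⟨fun p q => if p.2.2 = 0 then (p.1 + q.1, p.2.1 + q.2.1, q.2.2)
  else (p.1 + q.2.1, p.2.1 + q.1, 1 + q.2.2)⟩
instance : One Wr := ⟨(0, 0, 0)⟩
instance : Inv Wr := ⟨fun p => if p.2.2 = 0 then (-p.1, -p.2.1, 0) else (-p.2.1, -p.1, 1)⟩
instance : Group Wr := Group.ofLeftAxioms (by decide +kernel) (by decide +kernel)
  (by decide +kernel)

theorem sum32 {X : Type*} [Group X] {φ : X → ℂ} (hφ : IsCharacter X φ) {a b s : X}
    (ha : a ^ 4 = 1) (c : Commute a b) (hs : s * s = 1) (hb : s * a * s⁻¹ = b) :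
    ∃ k : ℕ, ∑ i : Fin 4, ∑ j : Fin 4, (φ (a ^ i.1 * b ^ j.1) + φ (a ^ i.1 * b ^ j.1 * s)) =
      32 * k := by
  have hb4 : b ^ 4 = 1 := by rw [← hb, conj_pow, ha]; group
  have e1 : ∀ n : ℕ, s * a ^ n = b ^ n * s := fun n => by rw [← hb, conj_pow]; group
  have e2 : ∀ n : ℕ, s * b ^ n = a ^ n * s := fun n => by
    rw [← hb, conj_pow, ← mul_assoc, ← mul_assoc, hs, one_mul, inv_eq_of_mul_eq_one_right hs]
  have pa : ∀ i j : Fin 4, a ^ (i + j).1 = a ^ i.1 * a ^ j.1 := fun i j => by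
    rw [Fin.val_add, ← pow_eq_pow_mod _ ha, pow_add]
  have pb : ∀ i j : Fin 4, b ^ (i + j).1 = b ^ i.1 * b ^ j.1 := fun i j => by
    rw [Fin.val_add, ← pow_eq_pow_mod _ hb4, pow_add]
  have cm : ∀ (i j : ℕ) (x : X), b ^ j * (a ^ i * x) = a ^ i * (b ^ j * x) := fun i j x => by
    rw [← mul_assoc, ← (c.pow_pow i j).eq, mul_assoc]
  let f : Wr →* X := MonoidHom.mk' (fun p => a ^ p.1.1 * b ^ p.2.1.1 * s ^ p.2.2.1)
    fun ⟨i, j, k⟩ ⟨i', j', k'⟩ => by
      fin_cases k
      · change a ^ (i + i').1 * b ^ (j + j').1 * s ^ k'.1 = _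
        simp only [pa, pb, mul_assoc, cm, pow_zero, one_mul]
      · change a ^ (i + j').1 * b ^ (j + i').1 * s ^ (1 + k').1 = _
        have : s ^ (1 + k').1 = s * s ^ k'.1 := by
          fin_cases k'
          · simp
          · simpa using hs.symm
        rw [this]
        simp only [pa, pb, mul_assoc, cm, pow_one]
        rw [← mul_assoc s, e1, mul_assoc, ← mul_assoc s (b ^ _), e2]
        simp only [mul_assoc, cm]
  obtain ⟨k, hk⟩ := sum_hom hφ f 1
  refine ⟨k, ?_⟩
  rw [show Fintype.card Wr = 32 from rfl] at hk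
  push_cast at hk
  rw [← hk]
  change _ = ∑ g : Fin 4 × Fin 4 × Fin 2, φ (a ^ g.1.1 * b ^ g.2.1.1 * s ^ g.2.2.1) * 1
  simp only [Fintype.sum_prod_type, Fin.sum_univ_two, mul_one, Fin.val_zero, Fin.val_one, pow_zero,
    pow_one]

/-! ### The symmetric group -/

abbrev S5 := Perm (Fin 5)
def fx (x : S5) : ℕ := (Finset.univ.filter fun i => x i = i).card
def rg (x : S5) : Bool := x * x * x = 1 ∨ x * x * x * x * x = 1
def w5 : S5 := swap 2 3 * swap 3 4
def e5 : S5 := swap 0 1 * swap 1 2 * swap 2 3 * swap 3 4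
def t5 : S5 := swap 0 1
def n5 : S5 := swap 0 1 * swap 2 3
def gg (y : S5) : ℕ := (Finset.univ.filter fun x : S5 => rg x ∧ rg (x⁻¹ * y)).card

theorem s5_1 : ∑ x : S5, ((fx x : ℤ) - 1) * (fx x - 1) = 120 := by decide +kernel
theorem s5_2 : ∑ x : S5, (if rg x then ((fx x : ℤ) - 1) else 0) = 0 := by decide +kernel
theorem s5_3 : gg 1 = 45 ∧ gg w5 = 33 ∧ gg e5 = 35 := by decide +kernel
theorem s5_4 : ∀ x : S5, rg x ∨ x * x * x * x = 1 ∨ x * x * x * (x * x * x) = 1 ∧ x * x * x ≠ 1 := by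
  decide +kernel

theorem conj_prime {x y : S5} {p : ℕ} (hp : p.Prime) (h3 : 3 ≤ p) (hx : orderOf x = p)
    (hy : orderOf y = p) : IsConj x y := by
  have k : ∀ x : S5, orderOf x = p → x.cycleType = {p} := fun x hx => by
    obtain ⟨n, hn⟩ := Perm.cycleType_prime_order (hx ▸ hp)
    have := x.sum_cycleType_le
    rw [hn, hx, Multiset.sum_replicate, Fintype.card_fin, smul_eq_mul] at this
    obtain rfl : n = 0 := by nlinarith
    rw [hn, hx]; rfl
  rw [Perm.isConj_iff_cycleType_eq, k x hx, k y hy]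

theorem reg_rg {x : S5} : Reg 2 x ↔ rg x := by
  refine ⟨fun h => ?_, fun h => ?_⟩
  · rcases s5_4 x with e | e | e
    · exact e
    · rw [eq_one_of_PElt_Reg ⟨2, by rw [← e]; simp [pow_succ]⟩ h]; decide
    · exact (e.2 (eq_one_of_PElt_Reg (p := 2) ⟨1, by rw [← e.1, pow_one, sq]⟩
        (by simpa [pow_succ] using h.pow 3))).elim
  · rcases of_decide_eq_true h with e | e
    · exact Reg_of_pow_eq_one (n := 3) (by norm_num) (by rw [← e]; simp [pow_succ])
    · exact Reg_of_pow_eq_one (n := 5) (by norm_num) (by rw [← e]; simp [pow_succ])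

theorem reg_cases {x : S5} (h : Reg 2 x) : x = 1 ∨ IsConj w5 x ∨ IsConj e5 x := by
  by_cases h1 : x = 1
  · exact Or.inl h1
  have := Fact.mk Nat.prime_three
  have := Fact.mk Nat.prime_five
  rcases of_decide_eq_true (reg_rg.1 h) with e | e
  · exact Or.inr (Or.inl (conj_prime Nat.prime_three le_rfl
      (orderOf_eq_prime (by decide) (by decide)) (orderOf_eq_prime (by rw [← e]; simp [pow_succ]) h1)))
  · exact Or.inr (Or.inr (conj_prime Nat.prime_five (by norm_num)
      (orderOf_eq_prime (by decide) (by decide)) (orderOf_eq_prime (by rw [← e]; simp [pow_succ]) h1)))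

theorem col_card {Y : Type*} [Group Y] [Fintype Y] [DecidableEq Y] (h g : Y) :
    col h g = (Finset.univ.filter fun c => c * h = g * c).card := by
  rw [col, ← Finset.sum_boole]; congr!

theorem col_not {Y : Type*} [Group Y] [Fintype Y] {h g : Y} (e : ¬ IsConj h g) : col h g = 0 :=
  Finset.sum_eq_zero fun c _ => if_neg fun e' => e (isConj_iff.2 ⟨c, by rw [e']; group⟩)

theorem kk5 : KK 2 (1 : S5) 1 = 88 ∧ KK 2 w5 1 = -8 ∧ KK 2 1 w5 = -8 ∧ KK 2 w5 w5 = 4 := by
  have fe : ∀ x : S5, Nat.card (MulAction.fixedBy (Fin 5) x) = fx x := fun x => by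
    rw [fx, Nat.card_eq_fintype_card, Fintype.card_subtype]
    exact congrArg Finset.card (Finset.filter_congr fun i _ => Iff.rfl)
  have c4 : IsIrrCharacter S5 fun x => (fx x : ℂ) - 1 := by
    have := genChar_sub (genChar_of_char (char_perm (G := S5) (Fin 5))) genChar_one
    simp only [fe] at this
    refine irr_of_genChar_norm_one this ?_ (by simp [show fx 1 = 5 by decide])
    have e := congrArg (Int.cast : ℤ → ℂ) s5_1
    push_cast at e
    simp only [classInner, map_sub, map_natCast, map_one, e, Nat.card_perm, Nat.card_fin]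
    norm_num [Nat.factorial]
  have n4 : (⟨_, c4⟩ : IrrCharacter S5) ∉ B0 2 S5 := by
    have e := congrArg (Int.cast : ℤ → ℂ) s5_2
    push_cast at e
    rw [mem_B0, not_not, ← e]
    exact Finset.sum_congr rfl fun x _ => by simp only [regInd, reg_rg]; split_ifs <;> simp
  have ge : ∀ y, conv (regInd 2) (regInd 2) y = gg y := fun y => by
    rw [conv, gg, ← Finset.sum_boole]
    exact Finset.sum_congr rfl fun x _ => by
      simp only [regInd, reg_rg]; split_ifs <;> simp_all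
  have gc := conv_class (G := S5) (regInd_class (p := 2)) (regInd_class (p := 2))
  have key : ∀ (y : S5) (α β γ : ℂ), col y 1 = α + 45 * β + 4 * γ → col y w5 = α + 33 * β + γ →
      col y e5 = α + 35 * β - γ → ∀ x, Reg 2 x → KK 2 x y = α + β * gg x := fun y α β γ h1 h2 h3 x hx => by
    have cl : IsClassFunction S5 (α • (fun _ => 1) + β • conv (regInd 2) (regInd 2) +
        γ • fun x => (fx x : ℂ) - 1) := fun g k => by
      have : (fx (k * g * k⁻¹) : ℂ) - 1 = fx g - 1 := irr_class ⟨_, c4⟩ g k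
      simp only [Pi.add_apply, Pi.smul_apply, gc g k, this]
    have := P0_congr (col_class y) cl PElt_one (fun x hx _ => ?_) hx (Commute.one_left x)
    · rw [one_mul, P0_add, P0_add, P0_smul, P0_smul, P0_smul, P0_one, P0_conv regInd_class,
        P0_irr_of_not_mem n4, ge] at this
      rw [KK_col, this]; ring
    rw [one_mul]
    rcases reg_cases hx with rfl | e | e
    · simp [h1, ge, s5_3.1, show fx 1 = 5 by decide]; ring
    · rw [← IsClassFunction_apply_of_isConj (col_class y) e, ← IsClassFunction_apply_of_isConj cl e]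
      simp [h2, ge, s5_3.2.1, show fx w5 = 2 by decide]; ring
    · rw [← IsClassFunction_apply_of_isConj (col_class y) e, ← IsClassFunction_apply_of_isConj cl e]
      simp [h3, ge, s5_3.2.2, show fx e5 = 0 by decide]; ring
  have rw5 : Reg 2 w5 := reg_rg.2 (by decide)
  have k1 := key 1 (-272) 8 8 (by rw [col_card]; simp [Fintype.card_perm, Nat.factorial]; norm_num)
    (by rw [col_not (by simp; decide)]; norm_num) (by rw [col_not (by simp; decide)]; norm_num)
  have k2 := key w5 37 (-1) 2 (by rw [col_not (by simp; decide)]; norm_num)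
    (by rw [col_card, show Finset.card _ = 6 by decide +kernel]; norm_num)
    (by rw [col_card, show Finset.card _ = 0 by decide +kernel]; norm_num)
  rw [k1 1 Reg_one, k1 w5 rw5, k2 1 Reg_one, k2 w5 rw5, s5_3.1, s5_3.2.1]
  norm_num

/-! ### Central kernels -/

section Cen

variable {X Y : Type*} [Group X] [Fintype X] [Group Y] [Fintype Y] {ρ : X →* Y}
  (hs : Function.Surjective ρ) (hc : ∀ k ∈ ρ.ker, PElt 2 k ∧ ∀ g, Commute k g)
include hc

theorem reg_lift {x x' : X} (hx : Reg 2 x) (hx' : Reg 2 x') (e : ρ x = ρ x') : x = x' := by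
  obtain ⟨h1, h2⟩ := hc (x * x'⁻¹) (by rw [MonoidHom.mem_ker, map_mul, map_inv, e, mul_inv_cancel])
  exact mul_inv_eq_one.1 ((Reg_mul_iff h1 hx' (h2 x')).1 (by simpa using hx))

include hs

theorem ex_reg {y : Y} (hy : Reg 2 y) : ∃ x, Reg 2 x ∧ ρ x = y := by
  obtain ⟨g, rfl⟩ := hs y
  obtain ⟨u, x, hu, hx, c, e, -, -⟩ := exists_decomp (p := 2) g
  have e1 : ρ u = 1 := (Reg_mul_iff (hu.map ρ) (hx.map ρ) (c.map ρ)).1 (by rwa [← map_mul, ← e])
  exact ⟨x, hx, by rw [e, map_mul, e1, one_mul]⟩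

theorem reg_sum' (f : Y → ℂ) : ∑ c, regInd 2 c * f (ρ c) = 1 * ∑ y, regInd 2 y * f y := by
  simp only [regInd, ite_mul, one_mul, zero_mul, ← Finset.sum_filter]
  refine Finset.sum_bij (fun c _ => ρ c) (fun c h => ?_) (fun a ha b hb e => ?_) (fun y h => ?_)
    fun _ _ => rfl
  · simp only [Finset.mem_filter, Finset.mem_univ, true_and] at h ⊢
    exact h.map ρ
  · simp only [Finset.mem_filter, Finset.mem_univ, true_and] at ha hb
    exact reg_lift hc ha hb e
  · simp only [Finset.mem_filter, Finset.mem_univ, true_and] at h ⊢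
    obtain ⟨x, h1, h2⟩ := ex_reg hs hc h
    exact ⟨x, h1, h2⟩

theorem kk_cen {u x x' : X} (hu : u ∈ ρ.ker) (hx : Reg 2 x) (hx' : Reg 2 x') :
    KK 2 (u * x) (u * x') = Nat.card ρ.ker * KK 2 (ρ x) (ρ x') := by
  obtain ⟨p, c⟩ := hc u hu
  have cl : IsClassFunction Y ((Nat.card ρ.ker : ℂ) • col (ρ x')) := fun g k => by
    simp only [Pi.smul_apply, col_class _ g k]
  rw [KK_col, KK_col, ← P0_smul, P0_congr (col_class _) (φ := fun g =>
    ((Nat.card ρ.ker : ℂ) • col (ρ x')) (ρ g)) (fun g k => by simp only [map_mul, map_inv, cl _ _])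
    p (fun w hw _ => ?_) hx (c x), P0_comp hs one_ne_zero (reg_sum' hs hc) cl, map_mul,
    MonoidHom.mem_ker.1 hu, one_mul]
  rw [map_mul, MonoidHom.mem_ker.1 hu, one_mul, Pi.smul_apply, col, col, smul_eq_mul,
    ← sum_comp hs fun k => if k * ρ x' = ρ w * k then (1 : ℂ) else 0]
  refine Finset.sum_congr rfl fun k _ => if_congr ?_ rfl rfl
  rw [← mul_assoc, ← (c k).eq, mul_assoc, mul_assoc, mul_right_inj, ← mul_inv_eq_iff_eq_mul,
    ← mul_inv_eq_iff_eq_mul (a := ρ k * _)]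
  exact ⟨fun e => by rw [← e]; simp, fun e => reg_lift hc ((Reg_conj k).2 hx') hw (by simpa using e)⟩

theorem half {g t ζ : X} (hζ : ζ ∈ ρ.ker) (z1 : ζ ≠ 1) (zz : ζ * ζ = 1) (ht : t * g * t⁻¹ = g * ζ)
    (h : ∀ c, ρ c * ρ g = ρ g * ρ c → c * g * c⁻¹ = g ∨ c * g * c⁻¹ = g * ζ) :
    2 * col g g = Nat.card ρ.ker * col (ρ g) (ρ g) := by
  have c := (hc ζ hζ).2
  rw [col, col, ← sum_comp hs fun k => if k * ρ g = ρ g * k then (1 : ℂ) else 0, two_mul]
  nth_rewrite 2 [← Equiv.sum_comp (Equiv.mulRight t)]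
  rw [← Finset.sum_add_distrib]
  refine Finset.sum_congr rfl fun k _ => ?_
  have e1 : k * t * g = g * (k * t) ↔ k * g * k⁻¹ = g * ζ := by
    rw [← mul_inv_eq_iff_eq_mul, show k * t * g * (k * t)⁻¹ = k * (t * g * t⁻¹) * k⁻¹ by group, ht,
      ← mul_assoc, mul_assoc (k * g), (c k⁻¹).eq, ← mul_assoc]
    exact ⟨fun e => by rw [← mul_one (k * g * k⁻¹), ← zz, ← mul_assoc, e], fun e => by
      rw [e, mul_assoc, zz, mul_one]⟩
  simp only [Equiv.coe_mulRight, e1, ← mul_inv_eq_iff_eq_mul (a := k * g)]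
  by_cases e : ρ k * ρ g = ρ g * ρ k
  · rcases h k e with e' | e' <;> simp [e, e', z1]
  · rw [if_neg e, if_neg, if_neg, add_zero]
    · exact fun e' => e (mul_inv_eq_iff_eq_mul.1 (by
        rw [← map_inv, ← map_mul, ← map_mul, e', map_mul, MonoidHom.mem_ker.1 hζ, mul_one]))
    · exact fun e' => e (mul_inv_eq_iff_eq_mul.1 (by rw [← map_inv, ← map_mul, ← map_mul, e']))

end Cen

theorem P0_cen {X : Type*} [Group X] [Fintype X] {u w y : X} (hu : PElt 2 u) (hw : Reg 2 w)
    (c : Commute u w) (h : ∀ k, Commute u k → Reg 2 k → k ∈ zpowers w) (hy : y ∈ zpowers w)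
    {θ : X → ℂ} (hθ : IsClassFunction X θ) :
    P0 2 θ (u * y) = (orderOf w : ℂ)⁻¹ * ∑ i ∈ Finset.range (orderOf w), θ (u * w ^ i) := by
  have le : zpowers w ≤ Cen1 u := zpowers_le.2 (c1.2 c.eq.symm)
  have ry : ∀ y ∈ zpowers w, Reg 2 y := by
    rintro _ ⟨n, rfl⟩; exact hw.zpow n
  have : ((zpowers w).subgroupOf (Cen1 u)).Normal := ⟨fun a ha g => mem_subgroupOf.2
    (h _ (c1.1 (g * a * g⁻¹).2).symm ((Reg_conj _).2 (ry _ (mem_subgroupOf.1 ha))))⟩
  have cd : Nat.card ((zpowers w).subgroupOf (Cen1 u)) = orderOf w := by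
    rw [Nat.card_congr (subgroupOfEquivOfLe le).toEquiv, Nat.card_zpowers]
  rw [P0_res hθ hu (ry y hy) (c1.1 (le hy)).symm ⟨u * y, mul_mem (c1.2 rfl) (le hy)⟩ rfl,
    P0_of_complement (N := (zpowers w).subgroupOf (Cen1 u)) (cd ▸ hw)
      (fun k hk => mem_subgroupOf.2 (h k (c1.1 k.2).symm (Reg_coe.2 hk))) (class_res hθ _), cd,
    Finset.sum_range, ← Equiv.sum_comp (subgroupOfEquivOfLe le).symm.toEquiv,
    ← Equiv.sum_comp (Equiv.mulLeft (⟨y, hy⟩ : zpowers w)⁻¹),
    ← Equiv.sum_comp (finEquivZPowers (isOfFinOrder_of_finite w))]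
  congr 1
  refine Finset.sum_congr rfl fun i _ => ?_
  simp [subgroupOfEquivOfLe, finEquivZPowers_apply, mul_assoc]

end CK
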