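import Cfsg.Agent.CK.C
import Cfsg.Agent.CK.D

/-! Central extensions of `S₅` by `Z₄` with wreathed Sylow subgroups. -/

set_option autoImplicit false
set_option linter.unusedVariables false
set_option linter.unusedSectionVars false

namespace CK

open Cfsg Subgroup H8 L GW Z6 Equiv Complex
open FT (Cen1 Nor)
open scoped ComplexConjugate Classical

def a5 : S5 := swap 0 2 * swap 2 1 * swap 1 3

theorem s5_5 : ∀ k : S5, rg k → (k * t5 = t5 * k → k = 1 ∨ k = w5 ∨ k = w5 * w5) ∧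
    (k * n5 = n5 * k → k = 1) := by decide +kernel

variable {X : Type*} [Group X] [Fintype X] {ρ : X →* S5} {a b s w : X}

/-- normalized data -/
structure E2 (ρ : X →* S5) (a b s w : X) : Prop where
  hs : Function.Surjective ρ
  ker : ρ.ker = zpowers (a * b)
  a4 : a ^ 4 = 1
  ss : s * s = 1
  sa : s * a * s⁻¹ = b
  ab : Commute a b
  cen : ∀ g, Commute (a * b) g
  z1 : (a * b) ^ 2 ≠ 1
  ra : ρ a = a5
  rh : ρ (a * s) = t5
  rw : ρ w = w5
  w3 : Reg 2 w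

/-- the 2-parts -/
def U9 (a b s : X) : Fin 9 → X :=
  ![a * s, (a * s)⁻¹, a * b, a * b, (a * b)⁻¹, (a * b)⁻¹, (a * b) ^ 2, (a * b) ^ 2, a * b⁻¹]
/-- the odd parts -/
def W9 (w : X) : Fin 9 → X := ![1, 1, 1, w, 1, w, 1, w, 1]
def κ9 : Fin 9 → Fin 6 := ![0, 1, 2, 2, 3, 3, 4, 4, 5]
def tb9 (i j : Fin 9) : ℤ := if κ9 i ≠ κ9 j then 0 else if i = j then
  ![8, 8, 352, 16, 352, 16, 352, 16, 16] i else -32

namespace E2

variable (h : E2 ρ a b s w)
include h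

theorem b4 : b ^ 4 = 1 := by rw [← h.sa, conj_pow, h.a4]; group

theorem y4 : (a * b) ^ 4 = 1 := by rw [h.ab.mul_pow, h.a4, h.b4, one_mul]

theorem oy : orderOf (a * b) = 4 := orderOf_eq_prime_pow (p := 2) (n := 1) h.z1 h.y4

theorem hc : ∀ k ∈ ρ.ker, PElt 2 k ∧ ∀ g, Commute k g := by
  rw [h.ker]
  rintro _ ⟨n, rfl⟩
  exact ⟨PElt.zpow ⟨2, h.y4⟩ n, fun g => (h.cen g).zpow_left n⟩

theorem ck : (Nat.card ρ.ker : ℂ) = 4 := by rw [h.ker, Nat.card_zpowers, h.oy]; rfl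

theorem ym : a * b ∈ ρ.ker := h.ker ▸ mem_zpowers _

theorem zz : (a * b) ^ 2 * (a * b) ^ 2 = 1 := by rw [← pow_add, h.y4]

theorem ksq {k : X} (hk : k ∈ ρ.ker) (e : k * k = 1) : k = 1 ∨ k = (a * b) ^ 2 := by
  rw [h.ker, mem_zpowers_iff_mem_range_orderOf, h.oy, Finset.mem_image] at hk
  obtain ⟨n, hn, rfl⟩ := hk
  have := Finset.mem_range.1 hn
  interval_cases n
  · exact Or.inl (pow_zero _)
  · exact absurd (by rw [← e, ← pow_add]) h.z1
  · exact Or.inr rfl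
  · exact absurd (by rw [← e, ← pow_add, show 3 + 3 = 4 + 2 from rfl, pow_add, h.y4, one_mul]) h.z1

theorem ex_k {g c : X} (e : ρ g = ρ c) (e2 : g * g = c * c) : g = c ∨ g = c * (a * b) ^ 2 := by
  have m : c⁻¹ * g ∈ ρ.ker := by rw [MonoidHom.mem_ker, map_mul, map_inv, e, inv_mul_cancel]
  have c1 := (h.hc _ m).2 c
  rcases h.ksq m (by
    have : c * (c⁻¹ * g) * (c * (c⁻¹ * g)) = c * c := by simpa using e2
    rwa [mul_assoc, ← mul_assoc (c⁻¹ * g), c1.eq, mul_assoc, ← mul_assoc, mul_eq_left] at this)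
    with e | e
  · exact Or.inl (inv_mul_eq_one.1 e).symm
  · exact Or.inr (by rw [← e]; group)

theorem hh : a * s * (a * s) = a * b := by
  rw [← h.sa, inv_eq_of_mul_eq_one_right h.ss]; group

theorem h2 : (a * s) ^ 2 = a * b := by rw [sq, h.hh]

theorem h8 : (a * s) ^ 8 = 1 := by rw [show 8 = 2 * 4 from rfl, pow_mul, h.h2, h.y4]

theorem w3' : w ^ 3 = 1 :=
  reg_lift h.hc (h.w3.pow 3) Reg_one (by rw [map_pow, h.rw, map_one]; decide)

theorem ow : orderOf w = 3 := by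
  have := Fact.mk Nat.prime_three
  exact orderOf_eq_prime h.w3' fun e => absurd (by rw [← h.rw, e, map_one]) (show w5 ≠ 1 by decide)

theorem hw {g : X} (e : ρ g = t5) : Commute g w :=
  mul_inv_eq_iff_eq_mul.1 (reg_lift h.hc ((Reg_conj g).2 h.w3) h.w3
    (by simp only [map_mul, map_inv, e, h.rw]; decide))

theorem vw : a ^ 2 * w * (a ^ 2)⁻¹ = w ^ 2 := reg_lift h.hc ((Reg_conj _).2 h.w3) (h.w3.pow 2)
  (by simp only [map_mul, map_inv, map_pow, h.ra, h.rw]; decide)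

theorem sb : s * b * s⁻¹ = a := by
  rw [← h.sa, show s * (s * a * s⁻¹) * s⁻¹ = s * s * a * (s * s)⁻¹ by group, h.ss]; group

theorem vh : a ^ 2 * (a * s) * (a ^ 2)⁻¹ = a * s * (a * b) ^ 2 := by
  have e1 : (a ^ 2)⁻¹ = a ^ 2 := inv_eq_of_mul_eq_one_right (by rw [← pow_add, h.a4])
  have e2 : s * a ^ 2 = b ^ 2 * s := by rw [← h.sa, conj_pow]; group
  rw [e1, mul_assoc a, ← ((h.cen s).pow_left 2).eq, h.ab.mul_pow, mul_assoc, mul_assoc, e2]; group

theorem rq : ρ (a * b⁻¹) = n5 := by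
  have : a * b⁻¹ = a ^ 2 * (a * b)⁻¹ := by rw [h.ab.eq]; group
  rw [this, map_mul, map_inv, MonoidHom.mem_ker.1 h.ym, map_pow, h.ra]; decide

theorem qq : a * b⁻¹ * (a * b⁻¹) = (a * b) ^ 2 := by
  rw [← sq, h.ab.inv_right.mul_pow, h.ab.mul_pow, inv_pow,
    inv_eq_of_mul_eq_one_right (show b ^ 2 * b ^ 2 = 1 by rw [← pow_add, h.b4])]

theorem sq' : s * (a * b⁻¹) * s⁻¹ = (a * b⁻¹)⁻¹ := by
  rw [← conj_mul, ← _root_.conj_inv, h.sa, h.sb, mul_inv_rev, inv_inv]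

theorem sv : IsConj s (a ^ 2) := by
  have e : ρ s = a5⁻¹ * t5 := by rw [← h.rh, ← h.ra, map_mul]; group
  obtain ⟨c, hc⟩ := h.hs (swap 1 2 : S5)
  rcases h.ex_k (g := c * s * c⁻¹) (c := a ^ 2) (by
    simp only [map_mul, map_inv, map_pow, hc, e, h.ra]; decide)
    (by rw [conj_mul, h.ss, ← pow_add, h.a4]; group) with e | e
  · exact isConj_iff.2 ⟨c, e⟩
  · refine (isConj_iff.2 ⟨c, e⟩).trans (isConj_iff.2 ⟨s, ?_⟩)
    rw [h.ab.mul_pow, ← mul_assoc (a ^ 2), ← pow_add, h.a4, one_mul, ← conj_pow, h.sb]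

theorem kg {g t r : X} (p : PElt 2 g) (gg : g * g ∈ ρ.ker) (ht : t * g * t⁻¹ = g * (a * b) ^ 2)
    (hr : Reg 2 r) (c : Commute g r) (hk : ∀ k, Commute g k → Reg 2 k → k ∈ zpowers r) :
    KK 2 g g = 2 * col (ρ g) (ρ g) / orderOf r := by
  have e := half h.hs h.hc (pow_mem h.ym 2) h.z1 h.zz ht fun c hc => h.ex_k
    (by rw [map_mul, map_mul, hc, map_inv]; group)
    (by rw [conj_mul, ← ((h.hc _ gg).2 c).eq]; group)
  have := P0_cen p hr c hk (one_mem _) (col_class g)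
  rw [mul_one, Finset.sum_eq_single 0 (fun i hi i0 => col_not fun e => i0 ?_) (fun e =>
    absurd (Finset.mem_range.2 (orderOf_pos r)) e), pow_zero, mul_one] at this
  · rw [KK_col, this, show col g g = 2 * col (ρ g) (ρ g) by
      rw [h.ck] at e; linear_combination e / 2]
    ring
  · obtain ⟨k, hk⟩ := isConj_iff.1 e
    have := ppart_unique (p.conj k) Reg_one (Commute.one_right _) p (hr.pow i) (c.pow_right i)
      (by rw [mul_one, hk])
    rw [this, left_eq_mul] at hk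
    exact Nat.eq_zero_of_dvd_of_lt (orderOf_dvd_of_pow_eq_one hk) (Finset.mem_range.1 hi)

theorem ht {g k : X} (e : ρ g = t5) (c : Commute g k) (hk : Reg 2 k) : k ∈ zpowers w := by
  rcases (s5_5 (ρ k) (reg_rg.1 (hk.map ρ))).1 (by rw [← e, ← map_mul, ← c.eq, map_mul]) with e | e | e
  · rw [reg_lift h.hc hk Reg_one (e.trans (map_one ρ).symm)]; exact one_mem _
  · rw [reg_lift h.hc hk h.w3 (e.trans h.rw.symm)]; exact mem_zpowers _
  · rw [reg_lift h.hc hk (h.w3.pow 2) (by rw [e, map_pow, h.rw, sq])]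
    exact pow_mem (mem_zpowers _) _

theorem rh' : ρ (a * s)⁻¹ = t5 := by rw [map_inv, h.rh]; decide

theorem vh' : a ^ 2 * (a * s)⁻¹ * (a ^ 2)⁻¹ = (a * s)⁻¹ * (a * b) ^ 2 := by
  rw [← _root_.conj_inv, h.vh, ← ((h.cen _).pow_left 2).eq, mul_inv_rev,
    inv_eq_of_mul_eq_one_right h.zz]

theorem pU (i : Fin 9) : PElt 2 (U9 a b s i) ∧ Reg 2 (W9 w i) ∧ Commute (U9 a b s i) (W9 w i) ∧
    (a * b) ^ 2 ∈ zpowers (U9 a b s i * W9 w i) := by
  have p8 : PElt 2 (a * s) := ⟨3, h.h8⟩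
  have p4 : PElt 2 (a * b) := ⟨2, h.y4⟩
  have m : ∀ {u x : X}, PElt 2 u → Reg 2 x → Commute u x → (a * b) ^ 2 ∈ zpowers u →
      PElt 2 u ∧ Reg 2 x ∧ Commute u x ∧ (a * b) ^ 2 ∈ zpowers (u * x) := fun {u x} hu hx c m => by
    obtain ⟨N, hN⟩ := exists_zpow_eq_ppart (G := X) (p := 2) (k := 1) not_p_dvd_one
    have := hN u x hu hx c
    rw [zpow_one] at this
    exact ⟨hu, hx, c, zpowers_le.2 (show u ∈ zpowers (u * x) from ⟨N, this⟩) m⟩
  have m1 : (a * b) ^ 2 ∈ zpowers (a * s) := h.h2 ▸ pow_mem (pow_mem (mem_zpowers _) _) _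
  have m2 : (a * b) ^ 2 ∈ zpowers (a * b) := pow_mem (mem_zpowers _) _
  fin_cases i
  · exact m p8 Reg_one (Commute.one_right _) m1
  · exact m p8.inv Reg_one (Commute.one_right _) (zpowers_inv.ge m1)
  · exact m p4 Reg_one (Commute.one_right _) m2
  · exact m p4 h.w3 (h.cen _) m2
  · exact m p4.inv Reg_one (Commute.one_right _) (zpowers_inv.ge m2)
  · exact m p4.inv h.w3 (h.cen _).inv_left (zpowers_inv.ge m2)
  · exact m (p4.pow 2) Reg_one (Commute.one_right _) (mem_zpowers _)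
  · exact m (p4.pow 2) h.w3 ((h.cen _).pow_left 2) (mem_zpowers _)
  · exact m (u := a * b⁻¹) ⟨2, by rw [show 2 ^ 2 = 2 * 2 from rfl, pow_mul, sq (a * b⁻¹), h.qq, sq, h.zz]⟩ Reg_one
      (Commute.one_right _) (h.qq ▸ mul_mem (mem_zpowers _) (mem_zpowers _))

theorem nc (i j : Fin 9) (e : κ9 i ≠ κ9 j) : ¬ IsConj (U9 a b s i) (U9 a b s j) := fun c => by
  have c1 : ∀ k : ℕ, ∀ x, IsConj ((a * b) ^ k) x → x = (a * b) ^ k := fun k x e => by
    obtain ⟨g, rfl⟩ := isConj_iff.1 e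
    rw [← ((h.cen g).pow_left k).eq]; group
  have yi : (a * b)⁻¹ = (a * b) ^ 3 := inv_eq_of_mul_eq_one_right (by rw [← pow_succ', h.y4])
  have inj : ∀ i j : Fin 4, (a * b) ^ i.1 = (a * b) ^ j.1 → i = j := fun i j e =>
    Fin.ext (pow_injOn_Iio_orderOf (by rw [h.oy]; exact i.2) (by rw [h.oy]; exact j.2) e)
  have q1 : ∀ i, U9 a b s i ^ 2 = (a * b) ^ (![1, 3, 2, 2, 2, 2, 0, 0, 2] i : Fin 4).1 := fun i => by
    fin_cases i
    · exact h.h2.trans (pow_one _).symm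
    · exact (inv_pow _ _).trans (by rw [h.h2, yi]; rfl)
    · rfl
    · rfl
    · exact (inv_pow _ _).trans (inv_eq_of_mul_eq_one_right h.zz)
    · exact (inv_pow _ _).trans (inv_eq_of_mul_eq_one_right h.zz)
    · exact ((sq _).trans h.zz).trans (pow_zero _).symm
    · exact ((sq _).trans h.zz).trans (pow_zero _).symm
    · exact (sq _).trans h.qq
  have q2 := c.pow 2
  rw [q1, q1] at q2
  have q3 := inj _ _ (c1 _ _ q2)
  have q4 : ∀ k : ℕ, a * b⁻¹ ≠ (a * b) ^ k := fun k e => absurd (by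
    rw [← h.rq, e, map_pow, MonoidHom.mem_ker.1 h.ym, one_pow]) (show n5 ≠ 1 by decide)
  have q5 : ¬ IsConj (a * b) (a * b)⁻¹ := fun e => by
    rw [yi, ← pow_one (a * b), ← pow_mul] at e
    exact absurd (inj 3 1 (c1 _ _ e)) (by decide)
  have q6 : ¬ IsConj (a * b) (a * b⁻¹) := fun e => q4 1 (c1 _ _ (by rwa [pow_one]))
  have q7 : ¬ IsConj (a * b)⁻¹ (a * b⁻¹) := fun e => q4 3 (c1 _ _ (by rwa [← yi]))
  fin_cases i <;> fin_cases j <;> first | exact absurd q3 (by decide) | exact e rfl | exact q5 c | exact q6 c | exact q7 c | exact q5 c.symm | exact q6 c.symm | exact q7 c.symm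

theorem kk9 (i j : Fin 9) :
    KK 2 (U9 a b s i * W9 w i) (U9 a b s j * W9 w j) = tb9 i j := by
  by_cases e : κ9 i ≠ κ9 j
  · rw [tb9, if_pos e, Int.cast_zero]
    exact KK_eq_zero (h.pU i).1 (h.pU i).2.1 (h.pU i).2.2.1 (h.pU j).1 (h.pU j).2.1 (h.pU j).2.2.1
      (h.nc i j e)
  have k : ∀ u ∈ ρ.ker, KK 2 (u * 1) (u * 1) = (352 : ℤ) ∧ KK 2 (u * w) (u * 1) = (-32 : ℤ) ∧
      KK 2 (u * 1) (u * w) = (-32 : ℤ) ∧ KK 2 (u * w) (u * w) = (16 : ℤ) := fun u hu => by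
    simp only [kk_cen h.hs h.hc hu, Reg_one, h.w3, map_one, h.rw, h.ck, kk5]
    norm_num
  have k1 := k _ h.ym
  have k2 := k _ (inv_mem h.ym)
  have k3 := k _ (pow_mem h.ym 2)
  have kt : ∀ g, PElt 2 g → ρ g = t5 → a ^ 2 * g * (a ^ 2)⁻¹ = g * (a * b) ^ 2 →
      KK 2 (g * 1) (g * 1) = (8 : ℤ) := fun g p r e => by
    rw [mul_one, h.kg p (by rw [MonoidHom.mem_ker, map_mul, r]; decide) e h.w3 (h.hw r)
      fun k => h.ht r, r, col_card, show Finset.card _ = 12 by decide +kernel, h.ow]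
    norm_num
  have k4 := kt _ (h.pU 0).1 h.rh h.vh
  have k5 := kt _ (h.pU 1).1 h.rh' h.vh'
  have k6 : KK 2 (a * b⁻¹ * 1) (a * b⁻¹ * 1) = (16 : ℤ) := by
    rw [mul_one, h.kg (t := s) (g := a * b⁻¹) (h.pU 8).1 (h.qq ▸ pow_mem h.ym 2) (by
      rw [h.sq', ← h.qq, inv_eq_iff_mul_eq_one, ← mul_assoc, h.qq, h.zz]) Reg_one
      (Commute.one_right _) fun k c hk => ?_, h.rq, col_card,
      show Finset.card _ = 8 by decide +kernel, orderOf_one]
    · norm_num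
    rw [reg_lift h.hc hk Reg_one (((s5_5 (ρ k) (reg_rg.1 (hk.map ρ))).2
      (by rw [← h.rq, ← map_mul, ← c.eq, map_mul])).trans (map_one ρ).symm)]
    exact one_mem _
  fin_cases i <;> fin_cases j <;> first | exact absurd (by decide) e | exact k4 | exact k5 | exact k6 | exact k1.1 | exact k1.2.1 | exact k1.2.2.1 | exact k1.2.2.2 | exact k2.1 | exact k2.2.1 | exact k2.2.2.1 | exact k2.2.2.2 | exact k3.1 | exact k3.2.1 | exact k3.2.2.1 | exact k3.2.2.2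

end E2

end CK
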