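import Cfsg.Agent.CK.E

/-! The wreathed case: integral combinations of columns. -/

set_option autoImplicit false
set_option linter.unusedVariables false
set_option linter.unusedSectionVars false

namespace CK

open Cfsg Subgroup H8 L GW Z6 Equiv Complex
open FT (Cen1 Nor)
open scoped ComplexConjugate Classical

/-- coefficients of the integral combinations, times 24 -/
def V9 : Fin 11 → Fin 9 → GaussianInt :=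
  ![![⟨6, 0⟩, ⟨6, 0⟩, 0, ⟨3, -3⟩, 0, ⟨3, 3⟩, 0, ⟨6, 0⟩, 0],
    ![⟨0, 6⟩, ⟨0, -6⟩, 0, ⟨-3, -3⟩, 0, ⟨-3, 3⟩, 0, ⟨6, 0⟩, 0],
    ![⟨-6, 0⟩, ⟨-6, 0⟩, 0, ⟨3, -3⟩, 0, ⟨3, 3⟩, 0, ⟨6, 0⟩, 0],
    ![⟨0, -6⟩, ⟨0, 6⟩, 0, ⟨-3, -3⟩, 0, ⟨-3, 3⟩, 0, ⟨6, 0⟩, 0],
    ![0, 0, 0, ⟨0, -6⟩, 0, ⟨0, 6⟩, 0, 0, 0],
    ![0, 0, ⟨0, -1⟩, ⟨0, -2⟩, ⟨0, 1⟩, ⟨0, 2⟩, ⟨-2, 0⟩, ⟨-4, 0⟩, ⟨6, 0⟩],
    ![0, 0, ⟨0, 1⟩, ⟨0, 2⟩, ⟨0, -1⟩, ⟨0, -2⟩, ⟨-2, 0⟩, ⟨-4, 0⟩, ⟨6, 0⟩],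
    ![0, 0, 0, 0, 0, 0, 0, 0, ⟨24, 0⟩],
    ![0, 0, 0, 0, 0, 0, ⟨8, 0⟩, ⟨16, 0⟩, 0],
    ![0, 0, ⟨2, 0⟩, ⟨-2, 0⟩, ⟨2, 0⟩, ⟨-2, 0⟩, 0, 0, 0],
    ![0, 0, ⟨-6, 0⟩, 0, ⟨-6, 0⟩, 0, 0, 0, ⟨12, 0⟩]]

theorem V9_sum (c : Fin 9 → ℂ) (k : Fin 11) : ∑ i, (V9 k i : ℂ) * c i =
    ![6 * c 0 + 6 * c 1 + (3 - 3 * I) * c 3 + (3 + 3 * I) * c 5 + 6 * c 7,
      6 * I * c 0 - 6 * I * c 1 - (3 + 3 * I) * c 3 - (3 - 3 * I) * c 5 + 6 * c 7,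
      -6 * c 0 - 6 * c 1 + (3 - 3 * I) * c 3 + (3 + 3 * I) * c 5 + 6 * c 7,
      -6 * I * c 0 + 6 * I * c 1 - (3 + 3 * I) * c 3 - (3 - 3 * I) * c 5 + 6 * c 7,
      6 * I * (c 5 - c 3),
      I * (c 4 + 2 * c 5 - c 2 - 2 * c 3) - 2 * c 6 - 4 * c 7 + 6 * c 8,
      -I * (c 4 + 2 * c 5 - c 2 - 2 * c 3) - 2 * c 6 - 4 * c 7 + 6 * c 8,
      24 * c 8, 8 * c 6 + 16 * c 7, 2 * (c 2 - c 3 + c 4 - c 5), 12 * c 8 - 6 * c 2 - 6 * c 4] k := by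
  fin_cases k <;> simp [V9, Fin.sum_univ_succ, GaussianInt.toComplex_def'] <;> ring

variable {X : Type*} [Group X] [Fintype X] {ρ : X →* S5} {a b s w : X}

namespace E2

variable (h : E2 ρ a b s w) {φ : X → ℂ} (hφ : IsCharacter X φ)
include h hφ

theorem f24 (h1 : ∀ t : ℕ, φ (a * s * w ^ t) = φ (a * s))
    (h3 : ∀ t : ℕ, φ ((a * s)⁻¹ * w ^ t) = φ (a * s)⁻¹) {α s1 s2 s3 s4 s6 : ℂ} (hα : α ^ 8 = 1)
    (e1 : α + α ^ 5 = s1) (e3 : α ^ 3 + α ^ 7 = s3) (e2 : α ^ 2 = s2) (e4 : α ^ 4 = s4)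
    (e6 : α ^ 6 = s6) : ∃ m d : ℕ, φ w + s1 * φ (a * s) + s3 * φ (a * s)⁻¹ + s2 * φ (a * b * w) +
      s4 * φ ((a * b) ^ 2 * w) + s6 * φ ((a * b)⁻¹ * w) = 8 * (m - d) ∧
      φ 1 - φ w + s2 * (φ (a * b) - φ (a * b * w)) + s4 * (φ ((a * b) ^ 2) - φ ((a * b) ^ 2 * w)) +
      s6 * (φ (a * b)⁻¹ - φ ((a * b)⁻¹ * w)) = 24 * d := by
  obtain ⟨ω, hω⟩ := exists_w3
  have cl := char_isClassFunction hφ
  obtain ⟨m, hm⟩ := four2 (m := 7) (n := 2) hφ (h.hw h.rh) h.h8 h.w3' hα (one_pow _)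
  obtain ⟨d, hd⟩ := four2 (m := 7) (n := 2) hφ (h.hw h.rh) h.h8 h.w3' hα (β := ω)
    (by linear_combination (ω - 1) * hω)
  have z4 : (a * s) ^ 4 = (a * b) ^ 2 := by rw [← h.h2, ← pow_mul]
  have i7 : (a * s) ^ 7 = (a * s)⁻¹ := eq_inv_of_mul_eq_one_left (by rw [← pow_succ, h.h8])
  have i6 : (a * s) ^ 6 = (a * b)⁻¹ := eq_inv_of_mul_eq_one_left (by rw [← h.h2, ← pow_add, h.h8])
  have i5 : ∀ t : ℕ, φ ((a * s) ^ 5 * w ^ t) = φ (a * s) := fun t => by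
    rw [← h1 (2 * t), ← cl (_ * w ^ (2 * t)) (a ^ 2), ← conj_mul, h.vh, ← conj_pow, h.vw, ← z4,
      ← pow_succ', ← pow_mul, pow_eq_pow_mod (2 * (2 * t)) h.w3', pow_eq_pow_mod t h.w3']
    congr 3; omega
  have i3 : ∀ t : ℕ, φ ((a * s) ^ 3 * w ^ t) = φ (a * s)⁻¹ := fun t => by
    rw [← h3 (2 * t), ← cl (_ * w ^ (2 * t)) (a ^ 2), ← conj_mul, h.vh', ← conj_pow, h.vw, ← z4,
      ← pow_mul, pow_eq_pow_mod (2 * (2 * t)) h.w3', pow_eq_pow_mod t h.w3']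
    congr 2
    · rw [pow_succ' _ 3, inv_mul_cancel_left]
    · congr 1; omega
  have k : ∀ u ∈ ρ.ker, φ (u * w ^ 2) = φ (u * w) := fun u hu => by
    rw [← cl (u * w) (a ^ 2), ← conj_mul, h.vw, ← ((h.hc u hu).2 _).eq, mul_inv_cancel_right]
  have k0 := k 1 (one_mem _)
  rw [one_mul, one_mul] at k0
  simp only [Fin.sum_univ_succ, Finset.univ_eq_empty, Finset.sum_empty, Fin.val_succ, Fin.val_zero,
    zero_add, Nat.reduceAdd, pow_one (a * s), h1, i3, i5, i7, h3, z4, i6, h.h2, k _ h.ym,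
    k _ (inv_mem h.ym), k _ (pow_mem h.ym 2)] at hm hd
  simp only [pow_zero, pow_one, one_mul, mul_one, k0] at hm hd
  push_cast at hm hd
  subst e1 e2 e3 e4 e6
  have e : φ 1 - φ w + α ^ 2 * (φ (a * b) - φ (a * b * w)) +
      α ^ 4 * (φ ((a * b) ^ 2) - φ ((a * b) ^ 2 * w)) +
      α ^ 6 * (φ (a * b)⁻¹ - φ ((a * b)⁻¹ * w)) = 24 * d := by
    linear_combination hd - (φ w + (α + α ^ 5) * φ (a * s) + (α ^ 3 + α ^ 7) * φ (a * s)⁻¹ +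
      α ^ 2 * φ (a * b * w) + α ^ 4 * φ ((a * b) ^ 2 * w) + α ^ 6 * φ ((a * b)⁻¹ * w)) * hω
  exact ⟨m, d, by linear_combination (hm - e) / 3, e⟩

theorem f16 (j k : ℕ) : ∃ m : ℕ, φ 1 + (I ^ j + I ^ k) * φ a + (I ^ (2 * j) + I ^ (2 * k)) * φ (a ^ 2) +
    (I ^ (3 * j) + I ^ (3 * k)) * φ (a ^ 3) + I ^ (j + k) * φ (a * b) +
    (I ^ (j + 2 * k) + I ^ (2 * j + k)) * φ (a * b ^ 2) +
    (I ^ (j + 3 * k) + I ^ (3 * j + k)) * φ (a * b⁻¹) + I ^ (2 * j + 2 * k) * φ ((a * b) ^ 2) +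
    (I ^ (2 * j + 3 * k) + I ^ (3 * j + 2 * k)) * φ (a ^ 2 * b ^ 3) +
    I ^ (3 * j + 3 * k) * φ (a * b)⁻¹ = 16 * m := by
  have p : ∀ j : ℕ, (I ^ j) ^ (3 + 1) = 1 := fun j => by rw [← pow_mul, mul_comm, pow_mul]; simp
  obtain ⟨m, hm⟩ := four2 (m := 3) (n := 3) hφ h.ab h.a4 h.b4 (p j) (p k)
  have sy : ∀ i j : ℕ, φ (a ^ i * b ^ j) = φ (a ^ j * b ^ i) := fun i j => by
    rw [← char_isClassFunction hφ _ s, ← conj_mul, ← conj_pow, ← conj_pow, h.sa, h.sb,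
      (h.ab.pow_pow j i).eq]
  have i3 : b⁻¹ = b ^ 3 := inv_eq_of_mul_eq_one_right (by rw [← pow_succ', h.b4])
  have i4 : (a * b)⁻¹ = a ^ 3 * b ^ 3 := inv_eq_of_mul_eq_one_right (by
    rw [← h.ab.mul_pow, ← pow_succ', h.y4])
  simp only [Fin.sum_univ_succ, Finset.univ_eq_empty, Finset.sum_empty, Fin.val_succ, Fin.val_zero,
    zero_add, Nat.reduceAdd, sy 0 1, sy 0 2, sy 0 3, sy 2 1, sy 3 1, sy 3 2] at hm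
  simp only [pow_zero, pow_one, one_mul, mul_one] at hm
  rw [i3, i4, h.ab.mul_pow]
  push_cast at hm
  exact ⟨m, by linear_combination hm⟩

theorem ints (h1 : ∀ t : ℕ, φ (a * s * w ^ t) = φ (a * s))
    (h3 : ∀ t : ℕ, φ ((a * s)⁻¹ * w ^ t) = φ (a * s)⁻¹) (k : Fin 11) :
    ∃ n : ℤ, 24 * (n : ℂ) = ∑ i, (V9 k i : ℂ) * φ (U9 a b s i * W9 w i) := by
  obtain ⟨ζ, hζ⟩ := IsAlgClosed.exists_pow_nat_eq I two_pos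
  have i2 := I_sq
  obtain ⟨m0, d0, a0, b0⟩ := h.f24 hφ h1 h3 (α := 1) (s1 := 2) (s3 := 2) (s2 := 1) (s4 := 1)
    (s6 := 1) (by ring) (by ring) (by ring) (by ring) (by ring) (by ring)
  obtain ⟨m2, d2, a2, b2⟩ := h.f24 hφ h1 h3 (α := I) (s1 := 2 * I) (s3 := -2 * I) (s2 := -1)
    (s4 := 1) (s6 := -1) (by grind) (by grind) (by grind) (by grind) (by grind) (by grind)
  obtain ⟨m4, d4, a4, b4⟩ := h.f24 hφ h1 h3 (α := -1) (s1 := -2) (s3 := -2) (s2 := 1) (s4 := 1)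
    (s6 := 1) (by ring) (by ring) (by ring) (by ring) (by ring) (by ring)
  obtain ⟨m6, d6, a6, b6⟩ := h.f24 hφ h1 h3 (α := -I) (s1 := -2 * I) (s3 := 2 * I) (s2 := -1)
    (s4 := 1) (s6 := -1) (by grind) (by grind) (by grind) (by grind) (by grind) (by grind)
  obtain ⟨m1, d1, a1, b1⟩ := h.f24 hφ h1 h3 (α := ζ) (s1 := 0) (s3 := 0) (s2 := I)
    (s4 := -1) (s6 := -I) (by grind) (by grind) (by grind) (by grind) (by grind) (by grind)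
  obtain ⟨m3, d3, a3, b3⟩ := h.f24 hφ h1 h3 (α := I * ζ) (s1 := 0) (s3 := 0) (s2 := -I)
    (s4 := -1) (s6 := I) (by grind) (by grind) (by grind) (by grind) (by grind) (by grind)
  obtain ⟨g1, c1⟩ := h.f16 hφ 0 2
  obtain ⟨g2, c2⟩ := h.f16 hφ 3 1
  obtain ⟨g3, c3⟩ := h.f16 hφ 0 3
  obtain ⟨g4, c4⟩ := h.f16 hφ 2 1
  obtain ⟨g5, c5⟩ := h.f16 hφ 0 1
  obtain ⟨g6, c6⟩ := h.f16 hφ 2 3
  obtain ⟨g7, c7⟩ := h.f16 hφ 0 0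
  obtain ⟨g8, c8⟩ := four hφ h.y4 (one_pow _)
  have qi : φ (a * b⁻¹)⁻¹ = φ (a * b⁻¹) := by rw [← h.sq', char_isClassFunction hφ]
  have q4 : (a * b⁻¹) ^ 4 = 1 := by rw [show 4 = 2 * 2 from rfl, pow_mul, sq (a * b⁻¹), h.qq, sq, h.zz]
  obtain ⟨g9, c9⟩ := four hφ q4 (one_pow _)
  obtain ⟨g0, c0⟩ := four hφ q4 (ω := -1) (by ring)
  have i3 : ∀ x : X, x ^ 4 = 1 → x ^ 3 = x⁻¹ := fun x e =>
    eq_inv_of_mul_eq_one_left (by rw [← pow_succ, e])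
  simp only [Finset.sum_range_succ, Finset.range_zero, Finset.sum_empty, pow_zero, pow_one, i3 _ q4,
    i3 _ h.y4, qi, sq (a * b⁻¹), h.qq] at c8 c9 c0
  simp only [Nat.reduceMul, Nat.reduceAdd, I_pow_eq_pow_mod', Nat.reduceMod, pow_zero, pow_one,
    I_sq, I_pow_three] at c1 c2 c3 c4 c5 c6
  push_cast at c8 c9 c0
  have e5 : (24 : ℂ) * (d0 + d2 - 2 * d3 - g1 - g2 + g3 + g4) = I * (φ (a * b)⁻¹ +
      2 * φ ((a * b)⁻¹ * w) - φ (a * b) - 2 * φ (a * b * w)) - 2 * φ ((a * b) ^ 2) -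
      4 * φ ((a * b) ^ 2 * w) + 6 * φ (a * b⁻¹) := by
    linear_combination -(b0 + b2 - 2 * b3) + 3 / 2 * (c1 + c2 - c3 - c4)
  have e6 : (24 : ℂ) * (d0 + d2 - 2 * d1 - g1 - g2 + g5 + g6) = -I * (φ (a * b)⁻¹ +
      2 * φ ((a * b)⁻¹ * w) - φ (a * b) - 2 * φ (a * b * w)) - 2 * φ ((a * b) ^ 2) -
      4 * φ ((a * b) ^ 2 * w) + 6 * φ (a * b⁻¹) := by
    linear_combination -(b0 + b2 - 2 * b1) + 3 / 2 * (c1 + c2 - c5 - c6)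
  rw [V9_sum]
  fin_cases k <;> simp only [U9, W9, Matrix.cons_val, Fin.reduceFinMk, Fin.zero_eta, Fin.mk_one,
    mul_one, Matrix.cons_val_zero, Matrix.cons_val_one]
  · exact ⟨m0 - d0 - (m1 - d1), by push_cast; linear_combination 3 * (a1 - a0)⟩
  · exact ⟨m2 - d2 - (m1 - d1), by push_cast; linear_combination 3 * (a1 - a2)⟩
  · exact ⟨m4 - d4 - (m1 - d1), by push_cast; linear_combination 3 * (a1 - a4)⟩
  · exact ⟨m6 - d6 - (m1 - d1), by push_cast; linear_combination 3 * (a1 - a6)⟩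
  · exact ⟨m3 - d3 - (m1 - d1), by push_cast; linear_combination 3 * (a1 - a3)⟩
  · exact ⟨d0 + d2 - 2 * d3 - g1 - g2 + g3 + g4, by push_cast; exact e5⟩
  · exact ⟨d0 + d2 - 2 * d1 - g1 - g2 + g5 + g6, by push_cast; exact e6⟩
  · exact ⟨g9 - g0, by push_cast; linear_combination 6 * (c0 - c9)⟩
  · exact ⟨g9 - g0 - 2 * (d0 + d2 - 2 * d3 - g1 - g2 + g3 + g4) -
      2 * (d0 + d2 - 2 * d1 - g1 - g2 + g5 + g6), by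
        push_cast; linear_combination 6 * (c0 - c9) - 2 * e5 - 2 * e6⟩
  · exact ⟨d0 - d2, by push_cast; linear_combination b2 - b0⟩
  · exact ⟨g9 - g8, by push_cast; linear_combination 6 * (c8 - c9)⟩

end E2

end CK
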