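import Cfsg.Agent.CK.E2
import Cfsg.Agent.H8.FusGraph

/-! The wreathed case: the contradiction. -/

set_option autoImplicit false
set_option linter.unusedVariables false
set_option linter.unusedSectionVars false

namespace CK

open Cfsg Subgroup H8 L GW Z6 Equiv Complex
open FT (Cen1 Nor)
open scoped ComplexConjugate Classical

theorem sum_lin9 {ι κ : Type*} [Fintype κ] {B : Finset ι} {n : ι → ℂ} {u : κ → ℂ}
    {v : ι → κ → ℂ} (hn : ∀ χ ∈ B, n χ = ∑ i, u i * v χ i) (f : ι → ℂ) :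
    ∑ χ ∈ B, n χ * f χ = ∑ i, u i * ∑ χ ∈ B, f χ * v χ i := by
  rw [Finset.sum_congr rfl fun χ h => by rw [hn χ h]]
  simp only [Finset.sum_mul, Finset.mul_sum]
  rw [Finset.sum_comm]
  exact Finset.sum_congr rfl fun i _ => Finset.sum_congr rfl fun χ _ => by ring

variable {G X : Type*} [Group G] [Fintype G] [Group X] [Fintype X] {z : G} {π : Cen1 z →* X}
  {ρ : X →* S5} {A B s w : X}

theorem blk [IsSimpleGroup G] (hG : ¬ IsMulCommutative G) (h : QS z π ((A * B) ^ 2))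
    (e : E2 ρ A B s w) : ∃ P ∈ B0 2 G, ∃ E ∈ B0 2 G, P ≠ triv G ∧ E ≠ triv G ∧ ∃ p ε α : ℤ,
      p * p = 1 ∧ ε * ε = 1 ∧ P.1 z = -5 * p ∧ E.1 z = -5 * ε ∧
      (-p * deg P - 25) * (ε * deg E - 25) = 600 ∧ val π P.1 (A * B⁻¹) = -p ∧
      val π P.1 (A * s) + val π P.1 (A * s)⁻¹ = 2 * p ∧
      val π P.1 (A * B) + val π P.1 (A * B)⁻¹ = 2 * (p + 6 * α) := by
  have ch := fun χ : IrrCharacter G => h.char (irr_isCharacter χ.2)
  have m1 := fun i => (e.pU i).2.2.2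
  have hw : ∀ χ ∈ B0 2 G, ∀ g, PElt 2 g → ρ g = t5 → (A * B) ^ 2 ∈ zpowers g → ∀ t : ℕ,
      val π χ.1 (g * w ^ t) = val π χ.1 g := fun χ hχ g p r m t => by
    obtain ⟨N, hN⟩ := exists_zpow_eq_ppart (G := X) (p := 2) (k := 1) not_p_dvd_one
    have := hN g _ p (e.w3.pow t) ((e.hw r).pow_right t)
    rw [zpow_one] at this
    rw [← h.P0_val hχ m, ← h.P0_val hχ (zpowers_le.2 (show g ∈ zpowers _ from ⟨N, this⟩) m),
      P0_cen p e.w3 (e.hw r) (fun k => e.ht r) (pow_mem (mem_zpowers w) t)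
      (char_isClassFunction (ch χ)), ← P0_cen p e.w3 (e.hw r) (fun k => e.ht r) (one_mem _)
      (char_isClassFunction (ch χ)), mul_one]
  have ex : ∀ (k : Fin 11) (χ : IrrCharacter G), ∃ n : ℤ, χ ∈ B0 2 G →
      24 * (n : ℂ) = ∑ i, (V9 k i : ℂ) * val π χ.1 (U9 A B s i * W9 w i) := fun k χ => by
    by_cases hχ : χ ∈ B0 2 G
    · obtain ⟨n, hn⟩ := e.ints (ch χ) (hw χ hχ _ (e.pU 0).1 e.rh (by simpa [U9, W9] using m1 0))
        (hw χ hχ _ (e.pU 1).1 e.rh' (by simpa [U9, W9] using m1 1)) k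
      exact ⟨n, fun _ => hn⟩
    · exact ⟨0, fun h => absurd h hχ⟩
  choose n hn using ex
  have gram : ∀ k l (c : ℤ), ∑ i, V9 k i * ∑ j, star (V9 l j) * tb9 i j = 576 * c →
      ∑ χ ∈ B0 2 G, n k χ * n l χ = c := fun k l c hc => by
    have e1 := congrArg GaussianInt.toComplex hc
    simp only [map_sum, map_mul, GaussianInt.toComplex_star, map_intCast, map_ofNat] at e1
    have : (576 : ℂ) * (∑ χ ∈ B0 2 G, n k χ * n l χ : ℤ) = 576 * c := by
      rw [← e1]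
      push_cast
      rw [Finset.mul_sum, Finset.sum_congr rfl (g := fun χ => 24 * (n k χ : ℂ) * (24 * n l χ))
        fun _ _ => by ring, sum_lin9 (hn k)]
      refine Finset.sum_congr rfl fun i _ => ?_
      rw [sum_lin9 (u := fun j => conj (V9 l j : ℂ))
        (v := fun χ j => conj (val π χ.1 (U9 A B s j * W9 w j))) fun χ hχ => by
          simp only [← map_mul, ← map_sum, ← hn l χ hχ]; rw [map_mul, map_ofNat, map_intCast]]
      simp only [h.kk (m1 _) (m1 _), e.kk9]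
    exact_mod_cast mul_left_cancel₀ (by norm_num) this
  have tr : ∀ k (c : ℤ), ∑ i, V9 k i = 24 * c → n k (triv G) = c := fun k c hc => by
    have e1 := congrArg GaussianInt.toComplex hc
    have e2 := hn k _ triv_mem_B0
    simp only [map_sum, map_mul, map_intCast, map_ofNat, h.val_triv, mul_one] at e1 e2
    exact_mod_cast mul_left_cancel₀ (by norm_num) (e2.trans e1)
  have D : ∀ k, ∑ χ ∈ B0 2 G, (n k χ : ℂ) * χ.1 1 = 0 := fun k => by
    refine mul_left_cancel₀ (show (24 : ℂ) ≠ 0 by norm_num) ?_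
    simp only [Finset.mul_sum, ← mul_assoc]
    rw [sum_lin9 (hn k)]; simp only [h.deg0 (m1 _), mul_zero, Finset.sum_const_zero]
  have D' : ∀ k, ∑ χ ∈ B0 2 G, n k χ * deg χ = 0 := fun k => by
    have := D k
    simp only [deg_eq] at this
    exact_mod_cast this
  have rel : ∀ χ ∈ B0 2 G, (n 8 χ = n 7 χ - 2 * n 5 χ - 2 * n 6 χ ∧ n 7 χ = n 0 χ + n 1 χ + n 2 χ +
      n 3 χ + 2 * (3 * n 9 χ + n 10 χ - n 1 χ - n 3 χ)) ∧ χ.1 z = (3 * n 8 χ - 2 * (n 0 χ + n 1 χ +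
      n 2 χ + n 3 χ - 2 * n 4 χ) : ℤ) ∧ val π χ.1 (A * B⁻¹) = n 7 χ ∧
      val π χ.1 (A * s) + val π χ.1 (A * s)⁻¹ = 2 * (n 0 χ - n 2 χ) ∧
      val π χ.1 (A * B) + val π χ.1 (A * B)⁻¹ = 2 * (n 0 χ - n 1 χ + n 2 χ - n 3 χ + 6 * n 9 χ) :=
    fun χ hχ => by
    have q := fun k => (hn k χ hχ).trans (V9_sum _ k)
    have q0 := q 0; have q1 := q 1; have q2 := q 2; have q3 := q 3; have q4 := q 4; have q5 := q 5
    have q6 := q 6; have q7 := q 7; have q8 := q 8; have q9 := q 9; have q10 := q 10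
    simp only [U9, W9, Matrix.cons_val, mul_one, h.val_z hχ] at q0 q1 q2 q3 q4 q5 q6 q7 q8 q9 q10
    refine ⟨?_, ?_, by linear_combination -q7 / 24, by linear_combination (q2 - q0) / 12,
      by linear_combination (q1 + q3 - q0 - q2 - 6 * q9) / 12⟩
    · have a1 : (n 8 χ : ℂ) = n 7 χ - 2 * n 5 χ - 2 * n 6 χ := by
        linear_combination (q8 - q7 + 2 * q5 + 2 * q6) / 24
      have a2 : (n 7 χ : ℂ) = n 0 χ + n 1 χ + n 2 χ + n 3 χ +
          2 * (3 * n 9 χ + n 10 χ - n 1 χ - n 3 χ) := by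
        linear_combination (q7 - q0 + q1 - q2 + q3 - 6 * q9 - 2 * q10) / 24
      exact ⟨by exact_mod_cast a1, by exact_mod_cast a2⟩
    · push_cast
      linear_combination (2 * (q0 + q1 + q2 + q3 - 2 * q4) - 3 * q8) / 24
  have fx : ∀ (f g : IrrCharacter G → ℤ) (k l) (c : ℤ), (∀ χ ∈ B0 2 G, f χ = n k χ) →
      (∀ χ ∈ B0 2 G, g χ = n l χ) → ∑ i, V9 k i * ∑ j, star (V9 l j) * tb9 i j = 576 * c →
      ∑ χ ∈ B0 2 G, f χ * g χ = c := fun f g k l c h1 h2 h3 =>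
    (Finset.sum_congr rfl fun χ hχ => by rw [h1 χ hχ, h2 χ hχ]).trans (gram k l c h3)
  let Q : IrrCharacter G → ℤ := fun χ => n 0 χ + n 1 χ + n 2 χ + n 3 χ +
    2 * (3 * n 9 χ + n 10 χ - n 1 χ - n 3 χ)
  have hQ : ∀ χ ∈ B0 2 G, Q χ = n 7 χ := fun χ hχ => (rel χ hχ).1.2.symm
  have hN : ∀ χ ∈ B0 2 G, Q χ - 2 * n 5 χ - 2 * n 6 χ = n 8 χ := fun χ hχ => by
    rw [hQ χ hχ, (rel χ hχ).1.1]
  obtain ⟨P, hP, E, hE, F, hF, p, ε, f, p1, e1, f1, Po, Eo, Fo, ⟨v0, v1, v2, v3, vQ, zP⟩, zE, zF, a,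
      S⟩ := pat2 (d := fun χ => deg χ) (u := n 4) (v := fun a => n (a.castLE (by decide)))
      (n5 := n 5) (n6 := n 6) (Q := Q) triv_mem_B0 (fun χ _ => by have := deg_pos χ; omega)
      (gram 4 4 _ (by decide +kernel)) (fun a b => gram _ _ _ (by revert a b; decide +kernel))
      (fun a => gram _ _ _ (by revert a; decide +kernel))
      (fun a => tr _ _ (by revert a; decide +kernel)) (tr _ _ (by decide +kernel)) (fun a => D' _)
      (by
        simp only [List.mem_cons, List.not_mem_nil, or_false, forall_eq_or_imp, forall_eq]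
        exact ⟨⟨gram _ _ _ (by decide +kernel), fun a => gram _ _ _ (by revert a; decide +kernel)⟩,
          ⟨gram _ _ _ (by decide +kernel), fun a => gram _ _ _ (by revert a; decide +kernel)⟩,
          ⟨fx _ _ 4 7 _ (fun _ _ => rfl) hQ (by decide +kernel),
            fun a => fx _ _ _ 7 _ (fun _ _ => rfl) hQ (by revert a; decide +kernel)⟩,
          fx _ _ 4 8 _ (fun _ _ => rfl) hN (by decide +kernel),
            fun a => fx _ _ _ 8 _ (fun _ _ => rfl) hN (by revert a; decide +kernel)⟩)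
      (gram _ _ _ (by decide +kernel)) (gram _ _ _ (by decide +kernel))
      (fx _ _ _ _ _ hQ hQ (by decide +kernel)) (fx _ _ _ _ _ hN hN (by decide +kernel))
      (fx _ _ _ 5 _ hQ (fun _ _ => rfl) (by decide +kernel)) (tr _ _ (by decide +kernel))
      (tr _ _ (by decide +kernel)) ((hQ _ triv_mem_B0).trans (tr _ _ (by decide +kernel)))
      (fun x => ⟨_, rfl⟩) (fun x => rfl) (fun x => rfl)
  have vz : ∀ χ ∈ B0 2 G, ∀ c : ℤ, 3 * (Q χ - 2 * n 5 χ - 2 * n 6 χ) -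
      2 * (n 0 χ + n 1 χ + n 2 χ + n 3 χ - 2 * n 4 χ) = c → χ.1 z = c := fun χ hχ c hc => by
    rw [(rel χ hχ).2.1, ← hc, hN χ hχ]
  have vP := vz P hP _ zP
  have vE := vz E hE _ zE
  have vF := vz F hF _ zF
  have d1 := S fun χ => χ.1 1
  have t1 := S fun χ => χ.1 z ^ 2 / χ.1 1
  have nc : ∀ i j, κ9 i ≠ κ9 j → (U9 A B s i)⁻¹ = U9 A B s j →
      ∑ χ ∈ B0 2 G, χ.1 z ^ 2 / χ.1 1 * val π χ.1 (U9 A B s i * W9 w i) = 0 := fun i j h1 h2 =>
    h.T0 (e.pU i).1 (e.pU i).2.1 (e.pU i).2.2.1 (m1 i) fun a ha =>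
      e.nc i j h1 (isConj_iff.2 ⟨a, ha.trans h2⟩)
  have T : ∀ k : Fin 4, ∑ χ ∈ B0 2 G, (n (k.castLE (by decide)) χ : ℂ) * (χ.1 z ^ 2 / χ.1 1) =
      (∑ χ ∈ B0 2 G, χ.1 z ^ 2 / χ.1 1 * val π χ.1 (U9 A B s 7 * W9 w 7)) / 4 := fun k => by
    refine mul_left_cancel₀ (show (24 : ℂ) ≠ 0 by norm_num) ?_
    rw [Finset.mul_sum]
    simp only [← mul_assoc]
    rw [sum_lin9 (hn _), V9_sum, nc 0 1 (by decide) rfl, nc 1 0 (by decide) (inv_inv _),
      nc 3 5 (by decide) rfl, nc 5 3 (by decide) (inv_inv _)]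
    fin_cases k <;> simp <;> ring
  rw [D, D] at d1
  rw [T, T, sub_self] at t1
  have sg : ∀ (ε : ℤ) (c : ℤ) (χ : IrrCharacter G), ε * ε = 1 →
      ε * (((c * ε : ℤ) : ℂ) ^ 2 / deg χ) = c ^ 2 / (ε * deg χ : ℤ) := fun ε c χ hε => by
    rcases pm hε with rfl | rfl <;> simp [div_neg]
  have sz : ∀ (ε : ℤ) (χ : IrrCharacter G), ε * ε = 1 → ε * deg χ ≠ 0 := fun ε χ hε => by
    have := deg_pos χ
    rcases pm hε with rfl | rfl <;> omega
  rw [← one_mul f] at vF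
  simp only [vP, vE, vF, deg_eq P, deg_eq E, deg_eq F, triv_apply, sg _ _ _ p1, sg _ _ _ e1,
    sg _ _ _ f1] at t1 d1
  have q3 : 1 - -p * deg P - ε * deg E - f * deg F = 0 := by
    have : (1 - -p * deg P - ε * deg E - f * deg F : ℂ) = 0 := by linear_combination -d1
    exact_mod_cast this
  have num := numer2 (by rw [neg_mul]; exact neg_ne_zero.2 (sz p P p1)) (sz ε E e1) (sz f F f1)
    (fun e' => ?_) q3 (by push_cast at t1 ⊢; rw [neg_mul, div_neg]; linear_combination -t1)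
  · obtain ⟨-, -, r1, r2, r3⟩ := rel P hP
    change n 0 P = p at v0
    change n 1 P = 0 at v1
    change n 2 P = 0 at v2
    change n 3 P = 0 at v3
    rw [hQ P hP] at vQ
    refine ⟨P, hP, E, hE, Po, Eo, p, ε, n 9 P, p1, e1, by simp [vP], by simp [vE], num,
      by simp [r1, vQ], by rw [r2, v0, v2]; simp, by rw [r3, v0, v1, v2, v3]; simp⟩
  · have : deg F = 1 := by rcases pm f1 with rfl | rfl <;> omega
    exact Fo (Subtype.ext (char_eq_one_of_perfect (commutator_eq_top_of_simple hG)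
      (irr_isCharacter F.2) (by rw [deg_eq, this]; simp)))

theorem i3 {Y : Type*} [Group Y] (x : Y) (e : x ^ 4 = 1) : x ^ 3 = x⁻¹ :=
  eq_inv_of_mul_eq_one_left (by rw [← pow_succ, e])

theorem wr2 [IsSimpleGroup G] (hG : ¬ IsMulCommutative G) {S W : Subgroup G} (hS : IsPGroup 2 S)
    (cS : Nat.card S = 32) (hW : Odd (Nat.card W)) (hn : S ≤ Nor W) (h0 : W ≠ ⊥)
    (hc : ∀ t ∈ S, orderOf t = 2 → W ⊓ Cen1 t ≤ Uo t) {a b s : Cen1 z}
    (h : QS z π ((π a * π b) ^ 2)) (e : E2 ρ (π a) (π b) (π s) w) (a4 : a ^ 4 = 1)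
    (ss : s * s = 1) (sa : s * a * s⁻¹ = b) (ab : Commute a b) (hz : ((a * b) ^ 2 : G) = z)
    (aS : (a : G) ∈ S) (bS : (b : G) ∈ S) (zv : IsConj z (a ^ 2 : G))
    (fus : ∀ f : G → ℂ, IsClassFunction G f → f a + f (a ^ 3) + f (a * b ^ 2) + f (a ^ 3 * b ^ 2) =
      f (a * b) + f (a * b)⁻¹ + 2 * f (a * (b : G)⁻¹)) : False := by
  obtain ⟨P, hP, E, hE, Po, Eo, p, ε, α, p1, e1, zP, zE, num, r1, r2, r3⟩ := blk hG h e
  have zS : z ∈ S := hz ▸ pow_mem (mul_mem aS bS) 2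
  have z1 : (⟨z, zS⟩ : S) ≠ 1 := fun e => ine h.oz (congrArg Subtype.val e)
  have a4' : (a : G) ^ 4 = 1 := congrArg Subtype.val a4
  have sa' : (s : G) * a * (s : G)⁻¹ = b := congrArg Subtype.val sa
  have ss' : (s : G) * s = 1 := congrArg Subtype.val ss
  have ab' : Commute (a : G) b := congrArg Subtype.val ab.eq
  have b4 : (b : G) ^ 4 = 1 := by rw [← sa', conj_pow, a4']; group
  have zb : IsConj z (b ^ 2 : G) := zv.trans (isConj_iff.2 ⟨s, by rw [← conj_pow, sa']⟩)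
  have bd : ∀ χ ∈ B0 2 G, χ ≠ triv G → ∀ c : ℤ, c * c = 1 → χ.1 z = -5 * c →
      (47 ≤ c * deg χ ∨ c * deg χ ≤ -37) ∧ ∀ Y : ℤ, χ.1 (a * b) + χ.1 (a * b)⁻¹ = 2 * Y →
      |Y| + 32 ≤ deg χ := fun χ hχ h1 c c1 vz => by
    obtain ⟨ψ, hψ, e1, d, e2, e3⟩ := free hG hS hW hn h0 hc hχ h1
    have nm : ∀ x : S, x ≠ 1 → ‖χ.1 x‖ ≤ d := fun x hx => by
      rw [← e1 x hx, ← Complex.norm_natCast, ← e2]; exact char_norm_le hψ x
    rw [cS] at e3
    refine ⟨?_, fun Y hY => ?_⟩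
    · rcases pm c1 with rfl | rfl
      · obtain ⟨k, hk⟩ := four2 (m := 1) (n := 1) hψ (x := ⟨a ^ 2, pow_mem aS 2⟩)
          (y := ⟨b ^ 2, pow_mem bS 2⟩) (Subtype.ext (ab'.pow_pow 2 2).eq)
          (Subtype.ext (by simpa [← pow_mul] using a4')) (Subtype.ext (by simpa [← pow_mul] using b4))
          (one_pow _) (one_pow _)
        have n1 : ∀ {x : G} (hx : x ∈ S), IsConj z x → ψ ⟨x, hx⟩ = -5 := fun {x} hx c => by
          rw [e1 ⟨x, hx⟩ fun e => ine h.oz (isConj_one_left.1 ((show x = 1 from congrArg Subtype.val e) ▸ c)),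
            ← IsClassFunction_apply_of_isConj (irr_class χ) c, vz]; simp
        simp only [Fin.sum_univ_succ, Finset.univ_eq_empty, Finset.sum_empty, Fin.val_succ,
          Fin.val_zero, zero_add, pow_zero, pow_one, one_mul, mul_one, e2, n1 _ zv, n1 _ zb,
          MulMemClass.mk_mul_mk, n1 _ (show IsConj z (a ^ 2 * b ^ 2) by rw [← ab'.mul_pow, hz])] at hk
        have : (d : ℂ) = 4 * k + 15 := by push_cast at hk; linear_combination hk
        have : d = 4 * k + 15 := by exact_mod_cast this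
        omega
      · have := nm _ z1
        simp only [vz] at this
        norm_num at this
        omega
    · have y1 : (⟨a * b, mul_mem aS bS⟩ : S) ≠ 1 := fun e => ine h.oz (by
        rw [← hz, show (a * b : G) = 1 from congrArg Subtype.val e, one_pow])
      have := (norm_add_le _ _).trans (add_le_add (nm _ y1) (nm _ (inv_ne_one.2 y1)))
      simp only [InvMemClass.coe_inv, hY, norm_mul, Complex.norm_intCast, Complex.norm_ofNat] at this
      have : |(Y : ℝ)| ≤ d := by linarith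
      have : |Y| ≤ d := by exact_mod_cast this
      omega
  obtain ⟨b1, b2⟩ := bd P hP Po p p1 zP
  obtain ⟨k, hk⟩ := sum32 (irr_isCharacter P.2) a4' ab' ss' sa'
  obtain ⟨s0, fin⟩ := numer3 (α := α) (k := k) num (by rw [neg_mul]; omega) (bd E hE Eo ε e1 zE).1
  obtain rfl : p = -1 := (pm p1).resolve_left fun e => by rw [e] at s0; omega
  have cl := irr_class P
  have vl := fun i (g : Cen1 z) (hg : π g = U9 (π a) (π b) (π s) i * W9 w i) =>
    h.val_eq hP (g := g) (hg ▸ (e.pU i).2.2.2)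
  have v0 := vl 0 (a * s) (by simp [U9, W9])
  have v1 := vl 1 (a * s)⁻¹ (by simp [U9, W9])
  have v2 := vl 2 (a * b) (by simp [U9, W9])
  have v4 := vl 4 (a * b)⁻¹ (by simp [U9, W9])
  have v8 := vl 8 (a * b⁻¹) (by simp [U9, W9])
  obtain ⟨c, hc⟩ := isConj_iff.1 e.sv
  have v9 := h.val_eq hP (g := a * b * s) (by
    rw [map_mul, map_mul, ← mul_one (_ ^ 2), ← e.ss, ← sq, ← (e.cen _).mul_pow]
    exact pow_mem (mem_zpowers _) _)
  rw [map_mul, map_mul, ← char_isClassFunction (h.char (irr_isCharacter P.2)) _ c, ← conj_mul, hc,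
    ← (e.cen c).eq, mul_inv_cancel_right, show π a * π b * π a ^ 2 = (π a * (π b)⁻¹)⁻¹ by
      rw [mul_assoc, ← (e.ab.pow_left 2).eq, ← mul_assoc, ← pow_succ', i3 _ e.a4, mul_inv_rev,
        inv_inv, e.ab.inv_left.eq], ← e.sq',
    char_isClassFunction (h.char (irr_isCharacter P.2))] at v9
  simp only [map_mul, map_inv, coe_mul, coe_inv] at v0 v1 v2 v4 v8 v9
  have vs : P.1 s = P.1 z := by
    obtain ⟨c, rfl⟩ := h.hs c
    have i1 : c * s * c⁻¹ * (c * s * c⁻¹) = 1 := by rw [conj_mul, ss]; group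
    have i2 : a ^ 2 * a ^ 2 = 1 := by rw [← pow_add, a4]
    have := isConj_of_odd_mul i1 i2 (Odd.of_dvd_nat h.odd (orderOf_dvd_natCard _ (by
      simp only [MonoidHom.mem_ker, map_mul, map_inv, map_pow, hc]; rw [← pow_add, e.a4])))
    rw [IsClassFunction_apply_of_isConj cl zv, ← cl s c]
    exact IsClassFunction_apply_of_isConj cl ((Cen1 z).subtype.map_isConj this)
  have sy : ∀ i j : ℕ, P.1 (a ^ i * b ^ j) = P.1 (a ^ j * b ^ i) := fun i j => by
    rw [← cl _ s, ← conj_mul, ← conj_pow, ← conj_pow, sa', ← sa',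
      show (s : G) * (s * a * (s : G)⁻¹) * (s : G)⁻¹ = s * s * a * (s * s : G)⁻¹ by group, ss', one_mul, inv_one,
      mul_one, sa', (ab'.pow_pow j i).eq]
  have os : ∀ i j : ℕ, P.1 (a ^ i * b ^ j * s) = P.1 (a ^ ((i + j) % 4) * s) := fun i j => by
    rw [← pow_eq_pow_mod _ a4', ← cl _ (a ^ j), ← sa', conj_pow]
    congr 1
    group
  have f := fus _ cl
  have o2 : P.1 (a ^ 2 * s) = P.1 (a * b * s) := by simpa using (os 1 1).symm
  have o3 : P.1 (a ^ 3 * s) = P.1 (a * s)⁻¹ := by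
    rw [← cl _ s, i3 _ a4', mul_inv_rev, ← mul_assoc, mul_inv_cancel_right,
      inv_eq_of_mul_eq_one_right ss']
  simp only [Fin.sum_univ_succ, Finset.univ_eq_empty, Finset.sum_empty, Fin.val_succ, Fin.val_zero,
    zero_add, Nat.reduceAdd, os, Nat.reduceMod, sy 0 1, sy 0 2, sy 0 3, sy 2 1, sy 3 1, sy 2 3]
    at hk
  simp only [pow_zero, pow_one, one_mul, mul_one, vs, o3, ← ab'.mul_pow, hz, i3 _ b4, deg_eq,
    show (a ^ 3 * (b : G)⁻¹ : G) = (a * b : G)⁻¹ by rw [i3 _ a4', ab'.eq, mul_inv_rev],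
    ← IsClassFunction_apply_of_isConj cl zv] at hk
  refine fin ?_ (by simpa using b2 (-1 + 6 * α) (by rw [← v2, ← v4, r3]; push_cast; ring))
  have : (deg P : ℂ) + 37 + 6 * (-1 + 6 * α) = 32 * k := by
    push_cast at zP r1 r2 r3
    linear_combination hk - 2 * f - 7 * zP - 4 * o2 + 4 * v9 + 4 * (v0 + v1) + 3 * (v2 + v4) +
      6 * v8 - 10 * r1 - 4 * r2 - 3 * r3
  have : (deg P : ℤ) + 37 + 6 * (-1 + 6 * α) = 32 * k := by exact_mod_cast this
  omega

end CK
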