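import Cfsg.Agent.GW.LC2c

/-! Groups with dihedral Sylow 2-subgroups and a subgroup isolating an involution. -/

set_option autoImplicit false
set_option linter.unusedVariables false
set_option linter.unusedSectionVars false

namespace CK

open Cfsg Subgroup FT H4 H5 GW
open H7 (NPC npc_iff_pPrimeCoreIn le_sup_sylow)

universe u

variable {Y : Type u} [Group Y] [Finite Y] {H L L' : Subgroup Y} {T : Sylow 2 Y} {a o u b : Y}
  {q τ σ q' τ' σ' : ℕ}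

/-- the setting -/
structure LL (H : Subgroup Y) (T : Sylow 2 Y) (a o : Y) : Prop where
  d2 : D2 Y
  h0 : pPrimeCore 2 Y = ⊥
  ne : H ≠ ⊤
  TH : (T : Subgroup Y) ≤ H
  f4 : F4 a o
  aT : a ∈ (T : Subgroup Y)
  oT : o ∈ (T : Subgroup Y)
  cen : (T : Subgroup Y) ≤ Cen1 a
  cj : ∃ t ∈ (T : Subgroup Y), t * o * t⁻¹ = a * o
  nc : ¬ IsConj a o

theorem LF3.mK (f : LF3 L q τ σ) (hD : D2 Y) (h4 : F4 u b) {x : Y} (hx : x ∈ Uo u)
    (hi : b * x * b⁻¹ = x⁻¹) : x ∈ Kt L u := by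
  rw [Dg.Kt_eq hD L h4.ht]
  refine ⟨hx, GW.mem_of_sq_mem (odd_ord (odd_Oo _) hx) ?_⟩
  have := f.comm_mem b h4.ha x
  rwa [mul_assoc (x * b), ← hi, iinv h4.ha, mul_assoc (b * x), ii h4.ha, mul_one, mul_assoc x,
    ← mul_assoc b, ii h4.ha, one_mul] at this

theorem kap_eq (f : LF3 L q τ σ) (hD : D2 Y) (g : AL H L' q' τ' σ') (h4 : F4 u b)
    (hu : Cen1 u ≤ H) (h1 : Oo H ≤ Cen1 u) (h2 : Oo H ≤ Cen1 b) :
    kap H L' u = Nat.card (Kt L u) := by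
  have bH := hu h4.aH
  have iv := f.inv u b h4.ht h4.ha h4.c h4.ne.symm
  have K1 : Kt L u ≤ Uo u := Dg.Kt_eq hD L h4.ht ▸ inf_le_left
  have K2 : Kt L u ≤ H := K1.trans ((Uo_le u).trans hu)
  have O1 : Oo H ≤ L' ⊓ Uo u := le_inf g.Ole (hD.le_Uo h4.ht h1 (odd_Oo _))
  have e : L' ⊓ Uo u = Oo H ⊔ Kt L u := le_antisymm (fun x hx => by
    obtain ⟨c, hc, i, hi, e, rfl⟩ := ci (odd_of_le inf_le_right (odd_Oo _)) h4.ha
      (g.nK bH h4.aH) hx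
    exact mul_mem (mem_sup_left (g.mem_O_of_cen (hu (c1.2 rfl)) bH h4 hc.1 hc.2))
      (mem_sup_right (LF3.mK f hD h4 hi.2 e))) (sup_le O1 fun x hx =>
      ⟨g.mem_L bH h4.ha (K2 hx) (odd_ord (odd_Oo _) (K1 hx)) (iv x hx), K1 hx⟩)
  refine relIndex_eq_of ?_
  rw [inf_eq_left.2 O1, e, card_sup_of_disjoint (K2.trans (lOo H)) (eq_bot_iff.2 fun x hx =>
    eq_one_of_inv_cen (odd_ord (odd_Oo _) hx.1) (iv x hx.2) (h2 hx.1))]

theorem ar5 {t n : ℕ} (h1 : q = 2 * (t + t) + 1 ∧ σ = t + t + 1 ∨ q + 1 = 2 * (t + t) ∧ σ + 1 = t + t)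
    (h2 : q' = 2 * (t + t) + 1 ∧ σ' = t + t + 1 ∨ q' + 1 = 2 * (t + t) ∧ σ' + 1 = t + t)
    (h3 : 3 ≤ q) (hn : 2 ≤ n) (h : q' * σ' * n = q * σ) : t = 1 ∧ n = 5 ∧ q * σ = 15 := by
  have h4 : q' * σ' * 2 ≤ q * σ := h ▸ Nat.mul_le_mul_left _ hn
  obtain ⟨t, rfl⟩ : ∃ m, t = m + 1 := ⟨t - 1, by omega⟩
  have e1 : q = 4 * t + 5 ∧ σ = 2 * t + 3 ∨ q = 4 * t + 3 ∧ σ = 2 * t + 1 := by omega
  have e2 : q' = 4 * t + 5 ∧ σ' = 2 * t + 3 ∨ q' = 4 * t + 3 ∧ σ' = 2 * t + 1 := by omega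
  clear h1 h2
  rcases e1 with ⟨rfl, rfl⟩ | ⟨rfl, rfl⟩ <;> rcases e2 with ⟨rfl, rfl⟩ | ⟨rfl, rfl⟩
  · exfalso; nlinarith
  · have : t < 2 := by nlinarith
    interval_cases t <;> omega
  all_goals exfalso; nlinarith

namespace LL

variable (h : LL H T a o)
include h

theorem lf : ∃ L q τ σ, LF3 (X := Y) L q τ σ := by
  rcases struct_quot h.d2 h.h0 (ind_all _) with e | e | e
  · exact absurd (eq_top_iff.2 (((isSylowOf_top T).eq_of_le (e.to_subgroup ⊤) le_top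
      le_rfl).le.trans h.TH)) h.ne
  · exact e
  · exact absurd (e.1.conj a o h.f4.ht h.f4.ha) h.nc

theorem mem {M : Subgroup Y} (hM : (T : Subgroup Y) ≤ Nor L) (h1 : OneCl L)
    (h2 : a ∈ L ∨ o ∈ L ∨ a * o ∈ L) : a ∈ L ∧ o ∉ L := by
  obtain ⟨t, ht, e⟩ := h.cj
  have k : o ∉ L := fun m => by
    have m2 : a ∈ L := by
      have := mul_mem (e ▸ cmem (hM ht) m) m
      rwa [mul_assoc, ii h.f4.ha, mul_one] at this
    obtain ⟨l, -, e⟩ := h1 a m2 o m h.f4.ht h.f4.ha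
    exact h.nc (isConj_iff.2 ⟨l, e⟩)
  refine ⟨(h2.resolve_right (not_or.2 ⟨k, fun m => k ?_⟩)), k⟩
  simpa [← e, mul_assoc] using cmem' (hM ht) m

theorem mL (f : LF3 L q τ σ) : a ∈ L ∧ o ∉ L :=
  h.mem (M := ⊤) (fun _ _ => (normalizer_eq_top_iff.2 f.nor).ge trivial) f.conj
    (f.four a o h.f4.ht h.f4.ha h.f4.c h.f4.ne.symm)

theorem mL' (g : AL H L' q' τ' σ') : a ∈ L' ∧ o ∉ L' :=
  h.mem (M := H) (h.TH.trans g.nor) g.conj (g.four a (h.TH h.aT) o (h.TH h.oT) h.f4)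

theorem syl : IsSylowOf 2 (T : Subgroup Y) H := (isSylowOf_top T).of_le h.TH le_top

theorem dg (h1 : Oo H ≤ Cen1 a) : H ≤ Cen1 a ∨ ∃ L q τ σ, AL H L q τ σ := by
  rcases dg_of_ind h.d2 (ind_all _) h.ne with e | e | e
  · exact Or.inl ((le_sup_sylow (lOo H) (npc_iff_pPrimeCoreIn.1 e) h.syl).trans (sup_le h1 h.cen))
  · exact Or.inr e
  · obtain ⟨l, -, e⟩ := e.conj a (h.TH h.aT) o (h.TH h.oT) h.f4.ht h.f4.ha
    exact absurd (isConj_iff.2 ⟨l, e⟩) h.nc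

theorem caseA (fg : ∀ g, g * o * g⁻¹ ∈ H → g ∈ H) :
    ∃ t s : Y, F4 t s ∧ (V4 t s).Normal ∧ Cen (V4 t s) ≤ V4 t s := by
  obtain ⟨L, q, τ, σ, f⟩ := h.lf
  rcases h.d2.gfit h.h0 with e | e | ⟨s1, s2, -⟩
  · exact absurd (eq_top_iff.2 (((isSylowOf_top T).eq_of_le (e.to_subgroup ⊤) le_top
      le_rfl).le.trans h.TH)) h.ne
  · exact e
  obtain ⟨q5, rfl⟩ := f.lay fun e => s2 (by rw [e]; infer_instance)
  obtain ⟨m1, m2⟩ := h.mL f
  have co : Cen1 o ≤ H := fun g hg => fg g (by rw [c1'.1 hg]; exact h.TH h.oT)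
  have O1 : Oo H ≤ Cen1 o := f.FA o h.f4.ha _ (odd_Oo _) (co.trans (lOo H))
  have O2 : Oo H ≤ Cen1 a := fun x hx => by
    obtain ⟨t, ht, e⟩ := h.cj
    refine h.f4.cen_t (O1 hx) ?_
    rw [← e, ← conj_c1, mem_conjS]
    exact O1 (cmem' (lOo H (h.TH ht)) hx)
  have c1 := f.card_out o h.f4.ha m2
  have num := f.num
  exfalso
  rcases h.dg O2 with e | ⟨L', q', τ', σ', g⟩
  · have : Kt (layer Y) o = ⊥ := eq_bot_iff.2 fun x hx => by
      obtain ⟨-, x1, x2⟩ := f.mem_K o h.f4.ha x hx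
      exact eq_one_of_inv_cen x2 (f.inv o a h.f4.ha h.f4.ht h.f4.symm.c h.f4.ne x hx)
        (e (co (c1c.2 x1)))
    rw [this, card_bot] at c1
    omega
  obtain ⟨n1, n2⟩ := h.mL' g
  have c2 := g.card_out o (h.TH h.oT) h.f4.ha n2
  rw [kap_eq f h.d2 g h.f4.symm co O1 O2, c1] at c2
  have c3 := f.card_in' o h.f4.ha m2 a m1 h.f4.ht T
  have c4 := g.card_in' o (h.TH h.oT) h.f4.ha n2 a n1 h.f4.ht _ h.syl
  obtain ⟨k, hk⟩ := Dg.odd_Kt h.d2 (layer Y) h.f4.ht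
  obtain ⟨k', hk'⟩ := AL.odd_kap (M := H) (L := L') a
  obtain ⟨t, rfl⟩ := f.even
  obtain ⟨t', rfl⟩ := g.even
  obtain ⟨m, hm⟩ : 2 ^ 3 ∣ Nat.card (T : Subgroup Y) := Nat.Coprime.dvd_of_dvd_mul_right
    (Nat.Coprime.pow_left 3 (odd_iff_cop.1 ⟨k, hk⟩).symm) ⟨t, by rw [c3]; ring⟩
  rw [hk, hm, show 2 ^ 3 * m * (2 * k + 1) = 16 * (m * k) + 8 * m by ring] at c3
  rw [hk', hm, show 2 ^ 3 * m * (2 * k' + 1) = 16 * (m * k') + 8 * m by ring] at c4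
  have num' := g.num
  obtain rfl : q' = q := by omega
  have c5 := g.idx a n1 h.f4.ht
  rw [relIndex_eq_one.2 O2, mul_one, ← c2, ← f.idx a m1 h.f4.ht, ← relIndex_top_right,
    ← card_class_in, ← card_class_in] at c5
  have all : ∀ x, x * a * x⁻¹ ∈ H := fun x => by
    obtain ⟨⟨y, l, hl, e⟩, e'⟩ := (Nat.bijective_iff_injective_and_card
      (Subtype.map id fun u (hu : ∃ l ∈ H, l * a * l⁻¹ = u) => show ∃ l ∈ ⊤, l * a * l⁻¹ = u from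
        hu.imp fun l hl => ⟨trivial, hl.2⟩)).2
      ⟨Subtype.map_injective _ Function.injective_id, c5⟩ |>.2 ⟨_, x, trivial, rfl⟩
    rw [← show y = x * a * x⁻¹ from congrArg Subtype.val e', ← e]
    exact cmem (le_normalizer hl) (h.TH h.aT)
  have LH : layer Y ≤ H := by
    rcases ((normalCore_normal H).subgroupOf (layer Y)).eq_bot_or_eq_top with e | e
    · exact absurd (show (⟨a, m1⟩ : layer Y) = 1 from e.le all)
        fun e => ine h.f4.ht (congrArg Subtype.val e)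
    · exact (subgroupOf_eq_top.1 e).trans (normalCore_le H)
  refine h.ne (eq_top_iff.2 fun x _ => fg x ?_)
  simpa [mul_assoc, ii h.f4.ha] using mul_mem (LH (f.comm_mem o h.f4.ha x)) (h.TH h.oT)

theorem caseB (fg : ∀ g, g * a * g⁻¹ ∈ H → g ∈ H) :
    Nat.card (T : Subgroup Y) = 8 ∧ Nonempty (Y ≃* Equiv.Perm (Fin 5)) := by
  obtain ⟨L, q, τ, σ, f⟩ := h.lf
  obtain ⟨m1, m2⟩ := h.mL f
  have ca : Cen1 a ≤ H := fun g hg => fg g (by rw [c1'.1 hg]; exact h.TH h.aT)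
  have O1 : Oo H ≤ Cen1 a := f.FA a h.f4.ht _ (odd_Oo _) (ca.trans (lOo H))
  have nH : ¬ H ≤ Cen1 a := fun e => by
    obtain ⟨b, hb, ob, c, ne⟩ := f.ex_four a m1 h.f4.ht
    obtain ⟨l, -, rfl⟩ := f.conj a m1 b hb h.f4.ht ob
    exact ne (c1'.1 (e (fg l (ca (c1c.2 c.symm))))).symm
  have OU := h.d2.le_Uo h.f4.ht O1 (odd_Oo _)
  have O2 : Oo H ≤ Cen1 o := fun x hx => by
    obtain ⟨c, hc, i, hi, e, rfl⟩ := ci (odd_Oo H) h.f4.ha (lOo H (h.TH h.oT)) hx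
    by_contra n
    refine nH ((ninf (lOo H) fun _ _ => (normalizer_eq_top_iff.2 f.nor).ge trivial).trans
      (f.F4 a h.f4.ht (Oo H ⊓ L) (by rw [Dg.Kt_eq h.d2 L h.f4.ht]; exact inf_le_inf_right _ OU)
        fun e' => n ?_))
    rw [show i = 1 from e'.le ⟨hi, (f.mem_K a h.f4.ht i (LF3.mK f h.d2 h.f4 (OU hi) e)).1⟩, mul_one]
    exact hc.2
  obtain ⟨L', q', τ', σ', g⟩ := (h.dg O1).resolve_left nH
  obtain ⟨n1, n2⟩ := h.mL' g
  have c3 := f.card_in' o h.f4.ha m2 a m1 h.f4.ht T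
  have c4 := g.card_in' o (h.TH h.oT) h.f4.ha n2 a n1 h.f4.ht _ h.syl
  rw [kap_eq f h.d2 g h.f4 ca O1 O2, c3] at c4
  obtain rfl : τ' = τ := by omega
  have c5 := g.idx a n1 h.f4.ht
  have c6 := relIndex_mul_index ca
  rw [c5, relIndex_eq_one.2 O1, mul_one, f.idx a m1 h.f4.ht] at c6
  have i1 : H.index ≠ 1 := mt index_eq_one.1 h.ne
  have i0 : H.index ≠ 0 := index_ne_zero_of_finite
  have q3 := g.three
  have q3' := f.three
  obtain ⟨t, rfl⟩ := f.even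
  obtain ⟨rfl, i5, i15⟩ := ar5 f.num g.num q3' (by omega) c6
  have T8 : Nat.card (T : Subgroup Y) = 8 := by
    have := Nat.Coprime.dvd_of_dvd_mul_right (Nat.Coprime.pow_left 3
      (odd_iff_cop.1 (Dg.odd_Kt h.d2 L h.f4.ht)).symm) (show 2 ^ 3 ∣ _ from ⟨1, c3⟩)
    exact Nat.dvd_antisymm ⟨_, c3.symm⟩ this
  have k0 : H.normalCore = ⊥ := by
    by_contra e
    exact h.ne (eq_top_iff.2 fun x _ => fg x (normalCore_le H (f.min _ inferInstance e _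
      (f.nor.conj_mem a m1 x) (iconj h.f4.ht x))))
  have e5 : (Y ⧸ H) ≃ Fin 5 := Finite.equivFinOfCardEq i5
  refine ⟨T8, ⟨(MulEquiv.ofBijective (MulAction.toPermHom Y (Y ⧸ H)) ?_).trans e5.permCongrHom⟩⟩
  have inj : Function.Injective (MulAction.toPermHom Y (Y ⧸ H)) := by
    rw [← MonoidHom.ker_eq_bot_iff, ← normalCore_eq_ker, k0]
  refine (Nat.bijective_iff_injective_and_card _).2 ⟨inj, le_antisymm
    (Nat.card_le_card_of_injective _ inj) ?_⟩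
  have := card_le_of_le h.cen
  rw [Nat.card_perm, ← index, i5, ← card_mul_index (Cen1 a), f.idx a m1 h.f4.ht, i15]
  simp only [Nat.factorial]
  omega

end LL

end CK
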