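import Cfsg.Agent.GW.Cv5
import Cfsg.Agent.Ly.T4
import Cfsg.Agent.H5.Dich1

/-! General lemmas on fusion of 2-elements. -/

set_option autoImplicit false
set_option linter.unusedVariables false
set_option linter.unusedSectionVars false

namespace CK

open Cfsg Subgroup FT H4 H5 GW
open H5.Dich (R3 e3_adjoin)
open Ly (T3)
open scoped commutatorElement

universe u

variable {G : Type u} [Group G] [Finite G] {A K P T U : Subgroup G} {a b k n s t u v x y z : G}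

theorem noE (h : ¬ R3 P) (f : F4 t u) (ht : t ∈ P) (hu : u ∈ P) (hx : x ∈ P) (xx : x * x = 1)
    (c1' : x ∈ Cen1 t) (c2 : x ∈ Cen1 u) : x ∈ V4 t u := by
  by_contra n
  exact h ⟨_, e3_adjoin (f.V_eq ▸ elem_four _ _ _) f.card_V.ge xx
    (V_le (c1s.1 c1') (c1s.1 c2)) n (V_le ht hu) hx⟩

theorem odd_cen (hA : IsPGroup 2 A) (ab : A ≤ Cen A) (hn : y ∈ Nor A) (ho : Odd (orderOf y))
    (h : ∀ x ∈ A, x * x = 1 → y ∈ Cen1 x) : y ∈ Cen A := by
  have key : ∀ j : ℕ, ∀ x ∈ A, x ^ 2 ^ j = 1 → y ∈ Cen1 x := fun j => by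
    induction j with
    | zero => exact fun x hx e => h x hx (by rw [show x = 1 by simpa using e, one_mul])
    | succ j ih =>
      intro x hx e
      have e1 := c1'.1 (ih (x * x) (mul_mem hx hx) (by rwa [← sq, ← pow_mul, ← pow_succ']))
      have m := mul_mem (inv_mem hx) (cmem hn hx)
      have e2 : x⁻¹ * (y * x * y⁻¹) * (x⁻¹ * (y * x * y⁻¹)) = 1 := by
        rw [mul_assoc, ← mul_assoc (y * x * y⁻¹), cen.1 (ab (cmem hn hx)) _ (inv_mem hx), mul_assoc,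
          conj_mul, e1]; group
      have := fix_of_odd (y := x) (k := 1) ho (by rwa [pow_one, sq]) (c1.1 (h _ m e2)) (by group)
      exact c1'.2 (inv_mul_eq_one.1 this).symm
  exact cen.2 fun x hx => (isPGroup_iff_forall.1 hA x hx).elim fun j e => c1.1 (key j x hx e)

theorem cb (h : IsSylowOf 2 A K) (ab : A ≤ Cen A) (hk : n ∈ K) (hn : n ∈ Nor A)
    (hc : ∀ x ∈ A, x * x = 1 → n ∈ Cen1 x) : n ∈ Cen A := by
  obtain ⟨a, ha, b, hb, e, p, o⟩ := exists_pPart 2 n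
  rw [e]
  exact mul_mem (ab (h.le_of_le_normalizer' (L.PElt.isPGroup_zpowers p)
    (zpowers_le.2 (zpowers_le.2 hk ha)) (zpowers_le.2 (zpowers_le.2 hn ha)) (mem_zpowers a)))
    (odd_cen h.isPGroup ab (zpowers_le.2 hn hb) (odd_iff_cop.2 o)
      fun x hx xx => zpowers_le.2 (hc x hx xx) hb)

theorem ze (m : ℕ) : ∀ (X : Type u) [Group X] [Finite X] (S : Sylow 2 X) (y : X),
    pPrimeCore 2 X = ⊥ → y ∈ (S : Subgroup X) → y ^ 2 ^ m = 1 → (∀ w ∈ zpowers y, ∀ g,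
      g * w * g⁻¹ ∈ (S : Subgroup X) → g * w * g⁻¹ = w) → ∀ g, g * y = y * g := by
  induction m with
  | zero => exact fun X _ _ S y _ _ e _ g => by rw [show y = 1 by simpa using e]; simp
  | succ m ih =>
    intro X _ _ S y h0 hy e wc
    by_cases e1 : y ^ 2 ^ m = 1
    · exact ih X S y h0 hy e1 wc
    have o : orderOf (y ^ 2 ^ m) = 2 := orderOf_eq_prime (by rwa [← pow_mul, ← pow_succ]) e1
    have w1 := wc _ (pow_mem (mem_zpowers y) (2 ^ m))
    have c := H3.commute_of_isolated h0 o (H3.isolated_of_weaklyClosed (L.PElt_of_orderOf (k := 1) o)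
      (H3.isSylowOf_centralizer S (cen.2 fun x hx => (c1.1 (c1'.2 (w1 x
        (cmem (le_normalizer hx) (pow_mem hy _))))).symm)) w1)
    have := normal_zp c
    let f := QuotientGroup.mk' (zpowers (y ^ 2 ^ m))
    have hf : Function.Surjective f := QuotientGroup.mk'_surjective _
    have hk : f.ker = zpowers (y ^ 2 ^ m) := QuotientGroup.ker_mk' _
    have mS : ∀ x, f x ∈ (S : Subgroup X).map f → x ∈ (S : Subgroup X) := fun x hx =>
      (comap_map_eq_self (hk.le.trans (zpowers_le.2 (pow_mem hy _)))).le hx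
    have := ih _ (S.mapSurjective hf) (f y) (core_central f hf h0 c hk) ⟨y, hy, rfl⟩
      (by rw [← map_pow, ← MonoidHom.mem_ker, hk]; exact mem_zpowers _) (by
        rintro _ ⟨j, rfl⟩ g hg
        obtain ⟨g, rfl⟩ := hf g
        simp only [← map_zpow, ← map_inv, ← map_mul] at hg ⊢
        rw [wc _ ⟨j, rfl⟩ g (mS _ hg)])
    exact fun g => mul_inv_eq_iff_eq_mul.1 (wc y (mem_zpowers y) g (mS _ ⟨y, hy, by
      rw [map_mul, map_mul, this, map_inv, mul_inv_cancel_right]⟩))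

theorem cube3 (h : T3 T U k) : ∃ a, T3 T U a ∧ a ^ 3 ∈ Cen T := by
  have := Fintype.ofFinite G
  obtain ⟨a, -, m, hm, t, -⟩ := h.exists_three
  exact ⟨a, t, t.cen_of m _ (pow_mem t.nor 3) t.cube (Commute.self_pow a 3)
    (by rw [← pow_mul, mul_comm, pow_mul, hm, one_pow])⟩

theorem ab_of (h : T3 T U k) (hs : s ∈ Nor T) (s2 : s * s ∈ T) (hz : z ∈ U)
    (fx : ∀ x ∈ U, s * x * s⁻¹ = x → x = 1 ∨ x = z) : T ≤ Cen T := by
  have := Fintype.ofFinite G
  obtain ⟨k, h, c3⟩ := cube3 h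
  by_contra hna
  obtain ⟨sq, hc⟩ := h.higman c3 fun e => hna (le_centralizer_of_comm e le_rfl le_rfl)
  have cm := @T3.comm G _ _ T U
  have k2 : ∀ x ∈ T, ∃ z ∈ U, k * (k * x * k⁻¹) * k⁻¹ = z * (x * (k * x * k⁻¹)) := fun x hx => by
    have m1 := cmem h.nor hx
    have m2 := cmem h.nor m1
    have m3 := mul_mem (mul_mem hx m1) m2
    have e : k * (x * (k * x * k⁻¹) * (k * (k * x * k⁻¹) * k⁻¹)) * k⁻¹ =
        x⁻¹ * (x * (k * x * k⁻¹) * (k * (k * x * k⁻¹) * k⁻¹)) * x := by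
      have := GW.cen.mp c3 x hx
      calc _ = k * x * k * x * k⁻¹ * k⁻¹ * (k ^ 3 * x) * (k ^ 3)⁻¹ := by
            simp only [pow_succ, pow_zero]; group
        _ = _ := by rw [this]; group
    have := (h.mem _).mpr ⟨m3, h.fpf _ (sq _ m3) (by
      rw [← conj_mul, e, show ∀ w : G, x⁻¹ * w * x * (x⁻¹ * w * x) = x⁻¹ * (w * w) * x from
        fun w => by group, h.cen _ (sq _ m3) _ (inv_mem hx)]; group)⟩
    refine ⟨_, mul_mem this (inv_mem (sq _ (mul_mem hx m1))), ?_⟩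
    rw [mul_assoc (x * _ * _), ← h.cen _ this _ (mul_mem (inv_mem (h.le (sq _ (mul_mem hx m1))))
      (mul_mem hx m1))]
    group
  have cb : ∀ g x y : G, ⁅g * x * g⁻¹, g * y * g⁻¹⁆ = g * ⁅x, y⁆ * g⁻¹ := BS.comm_conj
  have iv : ∀ x ∈ U, x⁻¹ = x := fun x hx => inv_eq_of_mul_eq_one_right (h.zz hx)
  have b1 : ∀ x ∈ T, ∀ y ∈ T, ⁅x, k * y * k⁻¹⁆ = ⁅k * x * k⁻¹, y⁆ := fun x hx y hy => by
    obtain ⟨z, hz, e⟩ := k2 x hx
    obtain ⟨w, hw, e'⟩ := k2 y hy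
    have m1 := cmem h.nor hx
    have m2 := cmem h.nor hy
    have e1 := cb k (k * x * k⁻¹) (k * y * k⁻¹)
    rw [e, e', cb, h.kk (cm sq hx hy), h.bl sq (h.le hz) (mul_mem hx m1)
      (mul_mem (h.le hw) (mul_mem hy m2)), h.bz hz (mul_mem (h.le hw) (mul_mem hy m2)), one_mul,
      h.br sq (h.le hw) (mul_mem hy m2) (mul_mem hx m1), h.bz' hw (mul_mem hx m1), one_mul,
      h.bl sq hx m1 (mul_mem hy m2), h.br sq hy m2 hx, h.br sq hy m2 m1, cb, mul_assoc,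
      mul_right_inj, ← mul_assoc, mul_eq_right, mul_eq_one_iff_eq_inv] at e1
    rw [e1, iv _ (cm sq m1 hy)]
  have b2 : ∀ x ∈ T, ∀ y ∈ T, ⁅k * x * k⁻¹, y⁆ = ⁅x, y⁆ * (k * ⁅x, y⁆ * k⁻¹) := fun x hx y hy => by
    obtain ⟨z, hz, e⟩ := k2 x hx
    have m1 := cmem h.nor hx
    have e1 := b1 _ m1 y hy
    rw [cb, e, h.bl sq (h.le hz) (mul_mem hx m1) hy, h.bz hz hy, one_mul, h.bl sq hx m1 hy] at e1
    rw [e1, ← mul_assoc, h.zz (cm sq hx hy), one_mul]
  have q : ∀ x ∈ T, ∀ y ∈ T, x * y * (x * y) = x * x * (y * y) * ⁅x, y⁆ := fun x hx y hy => by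
    have e1 := h.cen _ (cm sq hx hy) _ (mul_mem hx hy)
    have e2 := h.cen _ (cm sq hx hy) _ hy
    calc _ = x * (⁅x, y⁆⁻¹ * (x * y)) * y := by rw [commutatorElement_def]; group
      _ = _ := by rw [iv _ (cm sq hx hy), ← e1, mul_assoc, mul_assoc _ ⁅x, y⁆, ← e2]; group
  have mN : ∀ x y, x * y * (s * (x * y) * s⁻¹) =
      x * (s * x * s⁻¹) * ⁅(s * x * s⁻¹)⁻¹, y⁆ * (y * (s * y * s⁻¹)) := fun x y => by
    rw [commutatorElement_def]; group
  have st : ∀ a ∈ T, ∀ b ∈ T, a * (s * a * s⁻¹) ∈ U → b * (s * b * s⁻¹) ∈ U → a ∉ U → b ∉ U →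
      a * b ∈ U := by
    have f1 : ∀ a ∈ T, a * (s * a * s⁻¹) ∈ U → a ∉ U → a * a = z := fun a ha e n =>
      (fx _ (sq a ha) (by
        have e1 := h.cen _ e _ (inv_mem ha)
        calc _ = a⁻¹ * (a * (s * a * s⁻¹)) * (a⁻¹ * (a * (s * a * s⁻¹))) := by group
          _ = (a * a)⁻¹ * (a * (s * a * s⁻¹) * (a * (s * a * s⁻¹))) := by
            rw [mul_assoc a⁻¹ (a * _), ← mul_assoc (a * _) a⁻¹, ← e1]; group
          _ = _ := by rw [h.zz e, mul_one, iv _ (sq a ha)])).resolve_left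
        fun e => n ((h.mem a).2 ⟨ha, e⟩)
    intro a ha b hb e1 e2 n1 n2
    by_contra n
    have a2 := f1 a ha e1 n1
    have b2' := f1 b hb e2 n2
    have c2 := f1 _ (mul_mem ha hb) (mN a b ▸ mul_mem (mul_mem e1 (cm sq (inv_mem (cmem hs ha)) hb))
      e2) n
    rw [q a ha b hb, a2, b2', h.zz hz, one_mul] at c2
    have m := cmem h.nor hb
    have e3 := q a ha _ m
    rw [conj_mul, b1 a ha b hb, b2 a ha b hb, a2, b2', c2, h.zz (mul_mem hz (h.cj hz))] at e3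
    have e4 := h.bz' ((h.mem _).2 ⟨mul_mem ha m, e3⟩) ha
    rw [h.br sq ha m ha, commutatorElement_self, one_mul, b1 a ha b hb, b2 a ha b hb, c2,
      mul_eq_one_iff_inv_eq, iv z hz] at e4
    exact n1 ((h.mem a).2 ⟨ha, a2.trans (h.fpf z hz e4.symm)⟩)
  have N : ∀ x ∈ T, x * (s * x * s⁻¹) * (s * (x * (s * x * s⁻¹)) * s⁻¹) ∈ U := fun x hx => by
    have m := mul_mem (sq _ (cmem hs hx)) (cm sq s2 hx)
    have := mul_mem m (sq x hx)
    rw [← mul_assoc, ← h.cen _ m x hx, commutatorElement_def] at this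
    convert this using 1; group
  have st2 : ∀ x ∈ T, ∀ y ∈ T, ⁅x, y⁆ ≠ 1 → ∃ a ∈ T, a * (s * a * s⁻¹) ∈ U ∧ ⁅a, y⁆ ≠ 1 :=
    fun x hx y hy n => by
    have m := cmem h.nor hx
    have c := cm sq hx hy
    by_cases e1 : x * (s * x * s⁻¹) ∈ U
    · exact ⟨x, hx, e1, n⟩
    by_cases e2 : k * x * k⁻¹ * (s * (k * x * k⁻¹) * s⁻¹) ∈ U
    · refine ⟨_, m, e2, fun e => n (h.fpf _ c ?_)⟩
      rw [b2 x hx y hy, mul_eq_one_iff_inv_eq, iv _ c] at e
      exact e.symm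
    refine ⟨_, mul_mem hx m, ?_, fun e => n ?_⟩
    · have c' := cm sq (inv_mem (cmem hs hx)) m
      rw [mN, h.cen _ c' _ (mul_mem hx (cmem hs hx)), mul_assoc]
      exact mul_mem c' (st _ (mul_mem hx (cmem hs hx)) _ (mul_mem m (cmem hs m)) (N x hx) (N _ m)
        e1 e2)
    · rw [h.bl sq hx m hy, b2 x hx y hy, ← mul_assoc, h.zz c, one_mul] at e
      simpa using e
  refine hna fun x hx => cen.2 fun y hy => commutatorElement_eq_one_iff_mul_comm.1 ?_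
  by_contra n
  obtain ⟨a, ha, a1, a2⟩ := st2 x hx y hy n
  obtain ⟨b, hb, c1, c2⟩ := st2 y hy a ha fun e => a2 (by rw [← commutatorElement_inv, e, inv_one])
  have := h.bz' (st b hb a ha c1 a1 (fun e => c2 (h.bz e ha)) fun e => c2 (h.bz' e hb)) hb
  rw [h.br sq hb ha hb, commutatorElement_self, one_mul] at this
  exact c2 this

end CK
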