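import Cfsg.Agent.CK.G

/-! The Sylow 2-subgroup of a counterexample of 2-rank two. -/

set_option autoImplicit false
set_option linter.unusedVariables false
set_option linter.unusedSectionVars false

namespace CK

open Cfsg Subgroup FT H4 H5 GW
open H5.Dich (R3)
open H7 (le_sup_sylow npc_iff_pPrimeCoreIn)
open Ly (T3)

universe u

variable {G : Type u} [Group G] [Finite G] {S : Sylow 2 G} {P W : Subgroup G}
  {a b c g k s t u v x y z : G}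

/-- the hypotheses -/
structure Hy (S : Sylow 2 G) (W : Subgroup G) : Prop where
  sim : IsSimpleGroup G
  hG : ¬ IsMulCommutative G
  odd : Odd (Nat.card W)
  le : (S : Subgroup G) ≤ Nor W
  th : ∀ t ∈ Nor W, orderOf t = 2 → W ⊓ Cen1 t = Uo t

/-- the centralizer of a noncentral involution -/
structure TS (S : Sylow 2 G) (z v k : G) : Prop where
  zS : z ∈ (S : Subgroup G)
  vS : v ∈ (S : Subgroup G)
  cz : (S : Subgroup G) ≤ Cen1 z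
  f4 : F4 z v
  t3 : T3 ((S : Subgroup G) ⊓ Cen1 v) (V4 z v) k
  kz : k * z * k⁻¹ = v
  syl : IsSylowOf 2 ((S : Subgroup G) ⊓ Cen1 v) (Cen1 z ⊓ Cen1 v)
  nc : ¬ (S : Subgroup G) ≤ Cen1 v

theorem ext_conj (hz : (S : Subgroup G) ≤ Cen1 z) {K A : Subgroup G} (hS : (S : Subgroup G) ≤ K)
    (hg : g ∈ K) (hA : IsPGroup 2 A) (hK : A ≤ K) (h : A ≤ Cen1 (g * z * g⁻¹)) :
    ∃ n ∈ K, n * (g * z * g⁻¹) * n⁻¹ = z ∧ conjS n A ≤ S := by
  obtain ⟨c, hc, e⟩ := ((isSylowOf_top S).of_le (le_inf hS hz) le_top).exists_conj_le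
    (hA.map (MulAut.conj g⁻¹).toMonoidHom) (le_inf
      ((conjS_mono g⁻¹ hK).trans (conjS_eq_of_mem (inv_mem hg)).le) (by
        have := conjS_mono g⁻¹ h
        rwa [conj_c1, show g⁻¹ * (g * z * g⁻¹) * g⁻¹⁻¹ = z by group] at this))
  exact ⟨c * g⁻¹, mul_mem hc.1 (inv_mem hg), (by group : _ = c * z * c⁻¹).trans (c1'.1 hc.2),
    (conjS_conjS c g⁻¹ A).ge.trans e⟩

namespace Hy

variable (h : Hy S W)
include h

theorem Ule (ht : t ∈ Nor W) (o : orderOf t = 2) : Uo t ≤ W := h.th t ht o ▸ inf_le_left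

theorem gen (f : F4 a b) (ha : a ∈ Nor W) (hb : b ∈ Nor W) : W = Uo a ⊔ Uo b ⊔ Uo (a * b) :=
  le_antisymm (f.gen ha hb h.odd (h.th a ha f.ht ▸ le_sup_left.trans le_sup_left)
    (h.th b hb f.ha ▸ le_sup_right.trans le_sup_left)
    (h.th _ (mul_mem ha hb) f.hta ▸ le_sup_right))
    (sup_le (sup_le (h.Ule ha f.ht) (h.Ule hb f.ha)) (h.Ule (mul_mem ha hb) f.hta))

theorem fg (f : F4 a b) (ha : a ∈ Nor W) (hb : b ∈ Nor W) (h1 : g * a * g⁻¹ ∈ Nor W)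
    (h2 : g * b * g⁻¹ ∈ Nor W) : g ∈ Nor W := by
  refine mem_normalizer_iff_conjS.2 (Eq.trans ?_ (h.gen (f.conj g) h1 h2).symm)
  rw [conj_mul, ← conj_Uo, ← conj_Uo, ← conj_Uo, ← conjS_sup, ← conjS_sup, ← h.gen f ha hb]

theorem fg' (f : F4 a b) (ha : a ∈ Nor W) (hb : b ∈ Nor W) (h1 : g ∈ Cen1 a)
    (h2 : g * b * g⁻¹ ∈ Nor W) : g ∈ Nor W := h.fg f ha hb (by rwa [c1'.1 h1]) h2

theorem ex4 (hz : z ∈ (S : Subgroup G)) (oz : orderOf z = 2) (cz : (S : Subgroup G) ≤ Cen1 z) :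
    ∃ v, (v ∈ (S : Subgroup G) ∧ v ≠ z) ∧ IsConj z v := by
  by_contra n
  have := h.sim
  exact h.hG ⟨⟨H3.comm_of_isolated oz (H3.isolated_of_weaklyClosed (L.PElt_of_orderOf (k := 1) oz)
    ((isSylowOf_top S).of_le cz le_top) fun g hg => by
      by_contra e; exact n ⟨_, ⟨hg, e⟩, isConj_iff.2 ⟨g, rfl⟩⟩)⟩⟩

variable (h3 : ¬ R3 (S : Subgroup G))
include h3

theorem l4 (f : F4 t u) (ht : t ∈ (S : Subgroup G)) (hu : u ∈ (S : Subgroup G))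
    (hP : IsSylowOf 2 ((S : Subgroup G) ⊓ Cen1 t) (Cen1 t))
    (hc : (S : Subgroup G) ⊓ Cen1 t ≤ Cen1 u) : Cen1 t ≤ Nor W := by
  have mem : ∀ x ∈ (S : Subgroup G) ⊓ Cen1 t, x * x = 1 → x ∈ V4 t u := fun x hx xx =>
    noE h3 f ht hu hx.1 xx hx.2 (hc hx)
  have cV : V4 t u ≤ Cen ((S : Subgroup G) ⊓ Cen1 t) :=
    V_le (cen_iff_le.2 inf_le_right) (cen_iff_le.2 hc)
  have i := H3.isolated_in hP (L.PElt_of_orderOf (k := 1) f.ha) f.aH (cen_iff_le.2 hc)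
    (fun g hg e => cV (mem _ e (ii (iconj f.ha g)))) fun n hn hN => by
      obtain ⟨a, ha, b, hb, e, p, o⟩ := exists_pPart 2 n
      have b1 := zpowers_le.2 hn hb
      refine c1'.1 (e ▸ mul_mem (hc (hP.le_of_le_normalizer' (L.PElt.isPGroup_zpowers p)
        (zpowers_le.2 (zpowers_le.2 hn ha)) (zpowers_le.2 (zpowers_le.2 hN ha)) (mem_zpowers a)))
        (f.odd_fix (mem_normalizer_of_conjS_le ?_) b1 (odd_iff_cop.2 o)))
      rw [conj_V, c1'.1 b1]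
      exact V_le (t_V _ _) (mem _ (cmem (zpowers_le.2 hN hb) ⟨hu, f.aH⟩) (ii (iconj f.ha b)))
  have e := H3.centralizer_sup_oddCore_of_isolated (by rw [← orderOf_coe]; exact f.ha) i
  intro g hg
  refine (e.ge.trans (sup_le (fun c hc => ?_) fun o ho => ?_) : ⊤ ≤ (Nor W).subgroupOf (Cen1 t))
    (mem_top ⟨g, hg⟩)
  · refine h.fg' f (h.le ht) (h.le hu) c.2 ?_
    exact (c1'.1 (c1.2 (congrArg Subtype.val (c1.1 hc)))).symm ▸ h.le hu
  · exact le_normalizer (h.Ule (h.le ht) f.ht ⟨o, ho, rfl⟩)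

theorem all (hz : z ∈ (S : Subgroup G)) (oz : orderOf z = 2) (cz : (S : Subgroup G) ≤ Cen1 z)
    (hM : Cen1 z ≤ Nor W) (ht : t ∈ (S : Subgroup G)) (o : orderOf t = 2) : Cen1 t ≤ Nor W := by
  by_cases e : t = z
  · rwa [e]
  have f : F4 z t := ⟨oz, o, (c1.1 (cz ht)).symm, e⟩
  obtain ⟨P, hP, le⟩ := exists_isSylowOf_ge (K := Cen1 t) (S.2.to_inf_left) inf_le_right
  obtain ⟨g, -, hg⟩ := (isSylowOf_top S).exists_conj_le hP.isPGroup le_top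
  have m1 := hg (conj_mem_conjS (le ⟨hz, f.tH⟩))
  have m2 := hg (conj_mem_conjS (le ⟨ht, c1.2 rfl⟩))
  have gM := h.fg f (h.le hz) (h.le ht) (h.le m1) (h.le m2)
  have s1 := hP.map (MulAut.conj g).toMonoidHom
  have k : Cen1 (g * t * g⁻¹) ≤ Nor W := by
    by_cases e : g * t * g⁻¹ = z
    · rwa [e]
    have s2 : IsSylowOf 2 (conjS g P) (Cen1 (g * t * g⁻¹)) := conj_c1 g t ▸ s1
    exact h.l4 h3 (F4.symm ⟨oz, iconj o g, (c1.1 (cz m2)).symm, e⟩) m2 hz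
      (s2.eq_of_le S.2.to_inf_left (le_inf hg s2.le) inf_le_right ▸ s2) (inf_le_left.trans cz)
  have := conjS_mono g⁻¹ k
  rwa [← conj_c1, conjS_inv_conjS, conjS_eq_of_mem (inv_mem gM)] at this

theorem uq (hz : z ∈ (S : Subgroup G)) (oz : orderOf z = 2) (cz : (S : Subgroup G) ≤ Cen1 z)
    (hM : ¬ Cen1 z ≤ Nor W) (hu : u ∈ (S : Subgroup G)) (o : orderOf u = 2)
    (cu : (S : Subgroup G) ≤ Cen1 u) : u = z := by
  by_contra e
  exact hM (h.l4 h3 ⟨oz, o, (c1.1 (cz hu)).symm, e⟩ hz hu (by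
    rw [inf_eq_left.2 cz]; exact (isSylowOf_top S).of_le cz le_top) (inf_le_left.trans cu))

theorem ts (hz : z ∈ (S : Subgroup G)) (oz : orderOf z = 2) (cz : (S : Subgroup G) ≤ Cen1 z)
    (hM : ¬ Cen1 z ≤ Nor W) : ∃ v k, TS S z v k := by
  obtain ⟨v, ⟨⟨vS, vz⟩, cj⟩, mx⟩ := Set.exists_max_image
    {v | (v ∈ (S : Subgroup G) ∧ v ≠ z) ∧ IsConj z v}
    (fun v => Nat.card ↥((S : Subgroup G) ⊓ Cen1 v)) (Set.toFinite _) (h.ex4 hz oz cz)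
  have k : ∀ v ∈ (S : Subgroup G), v ≠ z → IsConj z v → F4 z v ∧ ¬ (S : Subgroup G) ≤ Cen1 v ∧
      (∀ x, x ∈ V4 z v ↔ x ∈ (S : Subgroup G) ⊓ Cen1 v ∧ x * x = 1) ∧
      ∃ s ∈ (S : Subgroup G), s ∈ Nor ((S : Subgroup G) ⊓ Cen1 v) ∧ s * v * s⁻¹ = z * v :=
    fun v vS vz cj => by
    obtain ⟨g, rfl⟩ := isConj_iff.1 cj
    have f : F4 z (g * z * g⁻¹) := ⟨oz, iconj oz g, (c1.1 (cz vS)).symm, vz⟩
    have nc := fun e => vz (h.uq h3 hz oz cz hM vS f.ha e)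
    have mem : ∀ x, x ∈ V4 z (g * z * g⁻¹) ↔ x ∈ (S : Subgroup G) ⊓ Cen1 (g * z * g⁻¹) ∧ x * x = 1 :=
      fun x => ⟨fun hx => ⟨V_le (mem_inf.2 ⟨hz, f.tH⟩) (mem_inf.2 ⟨vS, c1.2 rfl⟩) hx, by
        rcases f.mem_V.1 hx with e | e | e | e <;> simp [e, ii oz, ii f.ha, f.sq]⟩,
        fun hx => noE h3 f hz vS hx.1.1 hx.2 (cz hx.1.1) hx.1.2⟩
    obtain ⟨s, hs, s1⟩ := SetLike.exists_of_lt (lt_inf_normalizer_of_isPGroup S.2
      (lt_of_le_of_ne inf_le_left fun e => nc (e ▸ inf_le_right)))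
    refine ⟨f, nc, mem, s, hs.1, hs.2, (f.fix_or (mem_normalizer_of_conjS_le ?_)
      (cz hs.1)).resolve_left fun e => s1 ⟨hs.1, c1'.2 e⟩⟩
    rw [conj_V, c1'.1 (cz hs.1)]
    exact V_le (t_V _ _) ((mem _).2 ⟨cmem hs.2 ⟨vS, c1.2 rfl⟩, ii (iconj f.ha s)⟩)
  obtain ⟨f, nc, mem, s, sS, sN, e⟩ := k v vS vz cj
  obtain ⟨g, rfl⟩ := isConj_iff.1 cj
  obtain ⟨n, -, e1, e2⟩ := ext_conj cz le_top (mem_top g) S.2.to_inf_left le_top inf_le_right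
  generalize g * z * g⁻¹ = v at *
  have m1 := e2 (conj_mem_conjS (x := z) ⟨hz, f.tH⟩)
  have ne : n * z * n⁻¹ ≠ z := fun e => vz (by simpa using e1.trans e.symm)
  obtain ⟨f', -, -, s', s1, s2, e'⟩ := k _ m1 ne (isConj_iff.2 ⟨n, rfl⟩)
  have e3 : conjS n ((S : Subgroup G) ⊓ Cen1 v) = (S : Subgroup G) ⊓ Cen1 (n * z * n⁻¹) :=
    eq_of_le_of_card_ge
    (le_inf e2 (conj_c1 n z ▸ conjS_mono n (inf_le_left.trans cz)))
    (by rw [card_conjS]; exact mx _ ⟨⟨m1, ne⟩, isConj_iff.2 ⟨n, rfl⟩⟩)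
  have r1 : n⁻¹ * s' * n ∈ Nor ((S : Subgroup G) ⊓ Cen1 v) := by
    rw [mem_normalizer_iff_conjS, ← conjS_conjS, ← conjS_conjS, e3, mem_normalizer_iff_conjS.1 s2,
      ← e3, conjS_inv_conjS]
  have r2 : n⁻¹ * s' * n * z * (n⁻¹ * s' * n)⁻¹ = v * z := by
    calc _ = n⁻¹ * (s' * (n * z * n⁻¹) * s'⁻¹) * n := by group
      _ = n⁻¹ * z * n * z := by rw [e']; group
      _ = _ := by nth_rewrite 1 [← e1]; group
  have r3 : n⁻¹ * s' * n * v * (n⁻¹ * s' * n)⁻¹ = v := by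
    calc _ = n⁻¹ * (s' * (n * v * n⁻¹) * s'⁻¹) * n := by group
      _ = _ := by rw [e1, c1'.1 (cz s1), ← e1]; group
  generalize n⁻¹ * s' * n = r at r1 r2 r3
  have cj : ∀ x, s * r * x * (s * r)⁻¹ = s * (r * x * r⁻¹) * s⁻¹ := fun x => by group
  have k1 : s * r * z * (s * r)⁻¹ = v := by
    rw [cj, r2, ← conj_mul, e, c1'.1 (cz sS), mul_assoc, ← f.c, f.tta]
  have k2 : s * r * v * (s * r)⁻¹ = z * v := by rw [cj, r3, e]
  refine ⟨v, s * r, hz, vS, cz, f, ⟨S.2.to_inf_left, f.card_V, mem, fun u hu x hx => c1.1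
    ((V_le (c1s.1 (cz hx.1)) (c1s.1 hx.2) : V4 z v ≤ Cen1 x) hu) |>.symm, mul_mem sN r1,
    fun x hx e0 => ?_⟩, k1, ?_, nc⟩
  · rcases f.mem_V.1 hx with rfl | rfl | rfl | rfl
    · rfl
    · exact absurd (k1.symm.trans e0) vz
    · exact absurd (by simpa using k2.symm.trans e0) (ine oz)
    · rw [← conj_mul, k1, k2, f.ata] at e0
      exact absurd (by simpa using e0) (ine f.ha)
  · obtain ⟨P, hP, le⟩ := exists_isSylowOf_ge (K := Cen1 z ⊓ Cen1 v) (S.2.to_inf_left)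
      (inf_le_inf_right _ cz)
    obtain ⟨c, hc, e⟩ := ((isSylowOf_top S).of_le cz le_top).exists_conj_le hP.isPGroup
      (hP.le.trans inf_le_left)
    refine hP.of_card_le S.2.to_inf_left (inf_le_inf_right _ cz) ((card_conjS c P).ge.trans
      ((card_le_of_le (le_inf e (conj_c1 c v ▸ conjS_mono c (hP.le.trans inf_le_right)))).trans
        (mx _ ⟨⟨e (conj_mem_conjS (le ⟨vS, c1.2 rfl⟩)), fun e => vz ?_⟩,
          (isConj_iff.2 ⟨_, k1⟩).trans (isConj_iff.2 ⟨c, rfl⟩)⟩)))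
    simpa using e.trans (c1'.1 hc).symm

end Hy

/-- wreathed Sylow subgroup -/
structure WR (S : Sylow 2 G) (z v k : G) (n : ℕ) (a b s : G) : Prop extends TS S z v k where
  aS : a ∈ (S : Subgroup G)
  sS : s ∈ (S : Subgroup G)
  oa : orderOf a = 2 ^ (n + 2)
  av : a ^ 2 ^ (n + 1) = v
  ss : s * s = 1
  sa : s * a * s⁻¹ = b
  sv : s * v * s⁻¹ = z * v
  ab : (S : Subgroup G) ⊓ Cen1 v ≤ Cen ((S : Subgroup G) ⊓ Cen1 v)
  two : ∀ x ∈ (S : Subgroup G), x * v * x⁻¹ = v ∨ x * v * x⁻¹ = z * v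
  ind : ∀ i j : ℤ, a ^ i = b ^ j → a ^ i = 1
  mem : ∀ x ∈ (S : Subgroup G) ⊓ Cen1 v, ∃ i j : ℤ, x = a ^ i * b ^ j

namespace TS

variable (h : TS S z v k)
include h

theorem kv : k * v * k⁻¹ = z * v := by
  have := Fintype.ofFinite G
  have := h.t3.kk (t_V z v)
  rwa [h.kz] at this

theorem rot (hx : x ∈ (S : Subgroup G) ⊓ Cen1 v) {j : ℕ} (o : orderOf (x ^ j) = 2) :
    ∃ y ∈ (S : Subgroup G) ⊓ Cen1 v, orderOf y = orderOf x ∧ y ^ j = v := by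
  rcases h.f4.mem_V.1 ((h.t3.mem _).2 ⟨pow_mem hx j, ii o⟩) with e | e | e | e
  · exact absurd e (ine o)
  · exact ⟨_, cmem h.t3.nor hx, oconj _ _, by rw [conj_pow, e, h.kz]⟩
  · exact ⟨x, hx, rfl, e⟩
  · exact ⟨_, cmem (inv_mem h.t3.nor) hx, oconj _ _, by rw [conj_pow, e, ← h.kv]; group⟩

theorem two (hc : c ∈ (S : Subgroup G) ⊓ Cen1 v) (e : c * c = v) :
    ∀ x ∈ (S : Subgroup G), x * v * x⁻¹ = v ∨ x * v * x⁻¹ = z * v := by
  have TR : (S : Subgroup G) ⊓ Cen1 v ≤ (S : Subgroup G) ⊓ Nor (V4 z v) := fun x hx =>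
    ⟨hx.1, mcnor (cen_V z v ▸ ⟨h.cz hx.1, hx.2⟩)⟩
  suffices (S : Subgroup G) ≤ Nor (V4 z v) from fun x hx => h.f4.fix_or (this hx) (h.cz hx)
  by_contra n
  obtain ⟨y, hy, y1⟩ := SetLike.exists_of_lt (lt_inf_normalizer_of_isPGroup S.2
    (lt_of_le_of_ne (inf_le_left (b := Nor (V4 z v))) fun e => n (e ▸ inf_le_right)))
  have m := cmem hy.2 (TR hc)
  refine y1 ⟨hy.1, mem_normalizer_of_conjS_le ?_⟩
  rw [conj_V, c1'.1 (h.cz hy.1)]
  refine V_le (t_V _ _) ((h.t3.mem _).2 ⟨?_, ii (iconj h.f4.ha y)⟩)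
  nth_rewrite 2 [← e]
  rw [← conj_mul]
  generalize y * c * y⁻¹ = d at m
  refine ⟨mul_mem m.1 m.1, c1'.2 ?_⟩
  rw [show d * d * v * (d * d)⁻¹ = d * (d * v * d⁻¹) * d⁻¹ by group]
  rcases h.f4.fix_or m.2 (h.cz m.1) with e | e <;> rw [e]
  · exact e
  · rw [← conj_mul, c1'.1 (h.cz m.1), e, h.f4.tta]

theorem wr (hc : c ∈ (S : Subgroup G) ⊓ Cen1 v) (e : c * c = v) :
    ∃ n a b s, WR S z v k n a b s := by
  have := Fintype.ofFinite G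
  have tw := h.two hc e
  obtain ⟨s, sS, s1⟩ := SetLike.not_le_iff_exists.1 h.nc
  have sv := (tw s sS).resolve_left fun e => s1 (c1'.2 e)
  have cv : ∀ x ∈ (S : Subgroup G), x ∈ Cen1 (z * v) → x ∈ Cen1 v := fun x hx =>
    h.f4.cen_a (h.cz hx)
  have sz : s * (z * v) * s⁻¹ = v := by rw [← conj_mul, c1'.1 (h.cz sS), sv, h.f4.tta]
  have sN : s ∈ Nor ((S : Subgroup G) ⊓ Cen1 v) := mnor fun x hx =>
    ⟨cmem (le_normalizer sS) hx.1, cv _ (cmem (le_normalizer sS) hx.1) (by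
      rw [← sv, ← conj_c1]; exact conj_mem_conjS hx.2)⟩
  have s2 : s * s ∈ (S : Subgroup G) ⊓ Cen1 v := ⟨mul_mem sS sS, c1'.2 (by
    rw [show s * s * v * (s * s)⁻¹ = s * (s * v * s⁻¹) * s⁻¹ by group, sv, sz])⟩
  have ab := ab_of h.t3 sN s2 (t_V z v) fun x hx e0 => by
    rcases h.f4.mem_V.1 hx with rfl | rfl | rfl | rfl
    · exact Or.inl rfl
    · exact Or.inr rfl
    · exact absurd (c1'.2 e0) s1
    · exact absurd (by simpa using sz.symm.trans e0) (ine h.f4.ht)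
  obtain ⟨x, hx, mx⟩ := Set.exists_max_image {x | x ∈ (S : Subgroup G) ⊓ Cen1 v} orderOf
    (Set.toFinite _) ⟨c, hc⟩
  obtain ⟨m, hm⟩ := (IsPGroup.iff_orderOf.1 S.2) ⟨x, hx.1⟩
  rw [← orderOf_coe] at hm
  have pw : ∀ y ∈ (S : Subgroup G) ⊓ Cen1 v, y ^ 2 ^ m = 1 := fun y hy => by
    obtain ⟨j, hj⟩ := (IsPGroup.iff_orderOf.1 S.2) ⟨y, hy.1⟩
    rw [← orderOf_coe] at hj
    exact orderOf_dvd_iff_pow_eq_one.1 (hj ▸ pow_dvd_pow 2 ((Nat.pow_le_pow_iff_right one_lt_two).1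
      (hj ▸ hm ▸ mx y hy)))
  obtain ⟨n, rfl⟩ : ∃ n, m = n + 2 := ⟨m - 2, by
    by_contra n
    have p := pw c hc
    have : m ≤ 1 := by omega
    interval_cases m
    · exact ine h.f4.ha (by rw [← e, show c = 1 by simpa using p, one_mul])
    · exact ine h.f4.ha (by rw [← e, ← sq]; exact p)⟩
  obtain ⟨a, ha, oa, av⟩ := h.rot hx (j := 2 ^ (n + 1)) (by
    rw [orderOf_pow_of_dvd (by positivity) (hm ▸ pow_dvd_pow 2 (by omega)), hm, pow_succ',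
      Nat.mul_div_cancel _ (by positivity)])
  obtain ⟨b, sa⟩ : ∃ b, s * a * s⁻¹ = b := ⟨_, rfl⟩
  have hb : b ∈ _ := sa ▸ cmem sN ha
  have bv : b ^ 2 ^ (n + 1) = z * v := by rw [← sa, conj_pow, av, sv]
  have c1 : Commute a b := cen.1 (ab ha) b hb
  have sb : s * b * s⁻¹ = a := by
    rw [← sa, show s * (s * a * s⁻¹) * s⁻¹ = s * s * a * (s * s)⁻¹ by group, cen.1 (ab s2) a ha]
    group
  have ind : ∀ i j : ℤ, a ^ i = b ^ j → a ^ i = 1 := fun i j e => by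
    by_contra n
    obtain ⟨l, hl⟩ := H3.exists_involution_pow (L.PElt_of_mem S.2 ((S : Subgroup G).zpow_mem ha.1 i)) n
    have e1 := inv_uniq (zpow_mem (zpow_mem (mem_zpowers a) i) l) (av ▸ npow_mem_zpowers a _) hl
      h.f4.ha
    have e2 := inv_uniq (e ▸ zpow_mem (zpow_mem (mem_zpowers b) j) l) (bv ▸ npow_mem_zpowers b _) hl
      h.f4.hta
    exact ine h.f4.ht (by simpa using e2.symm.trans e1)
  have mem : ∀ j ≤ n + 2, ∀ x ∈ (S : Subgroup G) ⊓ Cen1 v, x ^ 2 ^ j = 1 →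
      x ∈ zpowers a ⊔ zpowers b := fun j => by
    induction j with
    | zero => exact fun _ x _ e => by rw [show x = 1 by simpa using e]; exact one_mem _
    | succ j ih =>
      intro hj x hx e
      obtain ⟨d, hd, e1⟩ : ∃ d ∈ zpowers a ⊔ zpowers b, d ^ 2 ^ (n + 1) = x ^ 2 ^ j := by
        rcases h.f4.mem_V.1 ((h.t3.mem _).2 ⟨pow_mem hx (2 ^ j), by
          rw [← sq, ← pow_mul, ← pow_succ, e]⟩) with e | e | e | e <;> rw [e]
        · exact ⟨1, one_mem _, one_pow _⟩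
        · exact ⟨a * b, mul_mem_sup (mem_zpowers a) (mem_zpowers b), by
            rw [c1.mul_pow, av, bv, h.f4.ata]⟩
        · exact ⟨a, mem_sup_left (mem_zpowers a), av⟩
        · exact ⟨b, mem_sup_right (mem_zpowers b), bv⟩
      have dT := pow_mem (sup_le (zpowers_le.2 ha) (zpowers_le.2 hb) hd) (2 ^ (n + 1 - j))
      have := ih (by omega) _ (mul_mem hx (inv_mem dT)) (by
        rw [(show Commute x _ from cen.1 (ab hx) _ (inv_mem dT)).mul_pow, inv_pow, ← pow_mul,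
          ← pow_add, Nat.sub_add_cancel (by omega), e1, mul_inv_cancel])
      simpa using mul_mem this (pow_mem hd (2 ^ (n + 1 - j)))
  have mem' : ∀ x ∈ (S : Subgroup G) ⊓ Cen1 v, ∃ i j : ℤ, x = a ^ i * b ^ j := fun x hx => by
    obtain ⟨_, ⟨i, rfl⟩, _, ⟨j, rfl⟩, e⟩ := (mem_sup_left_iff (nzp (zpowers_le.2 (c1c.2 c1.symm)))).1
      (mem _ le_rfl x hx (pw x hx))
    exact ⟨i, j, e.symm⟩
  obtain ⟨i, j, e⟩ := mem' _ s2
  have e1 : a ^ (i - j) = b ^ (i - j) := by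
    have : s * (a ^ i * b ^ j) * s⁻¹ = a ^ i * b ^ j := by rw [← e]; group
    rw [← conj_mul, ← conj_zpow, ← conj_zpow, sa, sb, ← (c1.zpow_zpow j i).eq] at this
    calc a ^ (i - j) = (a ^ j)⁻¹ * (a ^ i * b ^ j) * (b ^ j)⁻¹ := by group
      _ = _ := by rw [← this]; group
  have aN : ∀ x ∈ (S : Subgroup G) ⊓ Cen1 v, a ^ (-i) * x * (a ^ (-i))⁻¹ = x := fun x hx => by
    rw [cen.1 (ab (zpow_mem ha _)) x hx, mul_inv_cancel_right]
  have cj : ∀ x, a ^ (-i) * s * x * (a ^ (-i) * s)⁻¹ = a ^ (-i) * (s * x * s⁻¹) * (a ^ (-i))⁻¹ :=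
    fun x => by group
  refine ⟨n, a, b, a ^ (-i) * s, h, ha.1, mul_mem ((S : Subgroup G).zpow_mem ha.1 _) sS, oa.trans hm, av, ?_,
    by rw [cj, sa, aN b hb], by rw [cj, sv, aN _ (h.t3.le (mul_mem (t_V z v) (a_V z v)))], ab, tw,
    ind, mem'⟩
  calc _ = a ^ (-i) * (s * a * s⁻¹) ^ (-i) * (s * s) := by rw [conj_zpow]; group
    _ = a ^ (-i) * (b ^ (-i) * a ^ i) * b ^ j := by rw [sa, e]; group
    _ = (b ^ (i - j))⁻¹ := by rw [← (c1.zpow_zpow _ _).eq]; group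
    _ = 1 := by rw [← e1, ind _ _ e1, inv_one]

end TS

theorem Hy.cases (h : Hy S W) (h3 : ¬ R3 (S : Subgroup G)) (hz : z ∈ (S : Subgroup G))
    (oz : orderOf z = 2) (cz : (S : Subgroup G) ≤ Cen1 z) (hM : ¬ Cen1 z ≤ Nor W) :
    (∃ m a b, SDS S m a b ∧ a ^ 2 ^ (m + 2) = z) ∨ ∃ v k n a b s, WR S z v k n a b s := by
  obtain ⟨v, k, t⟩ := h.ts h3 hz oz cz hM
  by_cases e : ∃ c ∈ (S : Subgroup G) ⊓ Cen1 v, c * c = v
  · obtain ⟨c, hc, e⟩ := e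
    exact Or.inr ⟨v, k, t.wr hc e⟩
  have e1 : (S : Subgroup G) ⊓ Cen1 v = V4 z v := le_antisymm (fun x hx => by
    by_contra n
    obtain ⟨m, hm⟩ := (IsPGroup.iff_orderOf.1 S.2) ⟨x, hx.1⟩
    rw [← orderOf_coe] at hm
    obtain ⟨m, rfl⟩ : ∃ j, m = j + 2 := ⟨m - 2, by
      by_contra n'
      refine n ((t.t3.mem x).2 ⟨hx, ?_⟩)
      rw [← sq, ← orderOf_dvd_iff_pow_eq_one, hm]
      exact pow_dvd_pow 2 (show m ≤ 1 by omega)⟩
    obtain ⟨a, ha, -, av⟩ := t.rot hx (j := 2 ^ (m + 1)) (by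
      rw [orderOf_pow_of_dvd (by positivity) (hm ▸ pow_dvd_pow 2 (by omega)), hm, pow_succ',
        Nat.mul_div_cancel _ (by positivity)])
    exact e ⟨_, pow_mem ha (2 ^ m), by rw [← sq, ← pow_mul, ← pow_succ, av]⟩)
    (V_le ⟨hz, t.f4.tH⟩ ⟨t.vS, c1.2 rfl⟩)
  rcases H2.dihedral_of_centralizer_four S.2 ⟨v, t.vS⟩ (by rw [← orderOf_coe]; exact t.f4.ha) (by
    rw [← t.f4.card_V, ← e1, ← card_map_of_injective (S : Subgroup G).subtype_injective]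
    congr 2
    ext x
    exact ⟨fun ⟨y, hy, e⟩ => e ▸ ⟨y.2, c1.2 (congrArg Subtype.val (c1.1 hy))⟩,
      fun hx => ⟨⟨x, hx.1⟩, c1.2 (Subtype.ext (c1.1 hx.2)), rfl⟩⟩) with ⟨m, ⟨e⟩⟩ | e | e
  · exact absurd ((le_sup_sylow (nUo z) (npc_iff_pPrimeCoreIn.1 ((D2_of_dihedral S e).npc oz))
      ((isSylowOf_top S).of_le cz le_top)).trans (sup_le ((h.Ule (h.le hz) oz).trans le_normalizer)
        h.le)) hM
  · obtain ⟨m, a, b, q⟩ := exists_SDS S e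
    exact Or.inl ⟨m, a, b, q, h.uq h3 hz oz cz hM (pow_mem q.haS _) q.oz fun x => q.cen⟩
  · exact absurd ((eq_of_le_of_card_ge inf_le_left (by rw [e1, e, t.f4.card_V])).ge.trans
      inf_le_right) t.nc

end CK
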