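import Cfsg.Agent.CK.H
import Cfsg.Agent.CK.F

/-! Weak closure in the wreathed case; the local quotient. -/

set_option autoImplicit false
set_option linter.unusedVariables false
set_option linter.unusedSectionVars false

namespace CK

open Cfsg Subgroup FT H4 H5 GW
open H5.Dich (R3)

universe u

variable {G : Type u} [Group G] [Finite G] {S : Sylow 2 G} {P W : Subgroup G}
  {a b c g k s t u v w x y z : G} {n : ℕ}

namespace WR

variable (h : WR S z v k n a b s)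
include h

theorem sz : s * (z * v) * s⁻¹ = v := by
  rw [← conj_mul, c1'.1 (h.cz h.sS), h.sv, h.f4.tta]

theorem s1 : s ∉ Cen1 v := fun e => ine h.f4.ht (by simpa using h.sv.symm.trans (c1'.1 e))

theorem aT : a ∈ (S : Subgroup G) ⊓ Cen1 v := ⟨h.aS, c1.2 (h.av ▸ (Commute.self_pow a _).eq)⟩

theorem out (hx : x ∈ (S : Subgroup G)) (x1 : x ∉ Cen1 v) (hy : y ∈ (S : Subgroup G))
    (y1 : y ∉ Cen1 v) : x * y ∈ (S : Subgroup G) ⊓ Cen1 v := by
  refine ⟨mul_mem hx hy, c1'.2 ?_⟩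
  have e1 := (h.two x hx).resolve_left fun e => x1 (c1'.2 e)
  have e2 := (h.two y hy).resolve_left fun e => y1 (c1'.2 e)
  rw [show x * y * v * (x * y)⁻¹ = x * (y * v * y⁻¹) * x⁻¹ by group, e2, ← conj_mul,
    c1'.1 (h.cz hx), e1, h.f4.tta]

theorem sqT (hx : x ∈ (S : Subgroup G)) : x * x ∈ (S : Subgroup G) ⊓ Cen1 v := by
  by_cases e : x ∈ Cen1 v
  · exact ⟨mul_mem hx hx, mul_mem e e⟩
  · exact h.out hx e hx e

theorem bT : b ∈ (S : Subgroup G) ⊓ Cen1 v := by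
  refine ⟨h.sa ▸ cmem (le_normalizer h.sS) h.aS, h.f4.cen_a (h.cz
    (h.sa ▸ cmem (le_normalizer h.sS) h.aS)) ?_⟩
  rw [← h.sv, ← conj_c1, ← h.sa]
  exact conj_mem_conjS h.aT.2

theorem cab : Commute a b := cen.1 (h.ab h.aT) b h.bT

theorem sb : s * b * s⁻¹ = a := by
  rw [← h.sa, show s * (s * a * s⁻¹) * s⁻¹ = s * s * a * (s * s)⁻¹ by group, h.ss]; group

theorem bv : b ^ 2 ^ (n + 1) = z * v := by rw [← h.sa, conj_pow, h.av, h.sv]

theorem yz : (a * b) ^ 2 ^ (n + 1) = z := by rw [h.cab.mul_pow, h.av, h.bv, h.f4.ata]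

theorem yT (hw : w ∈ zpowers (a * b)) : w ∈ (S : Subgroup G) ⊓ Cen1 v :=
  zpowers_le.2 (mul_mem h.aT h.bT) hw

theorem yc (hw : w ∈ zpowers (a * b)) : (S : Subgroup G) ≤ Cen1 w := fun x hx => by
  refine c1s.1 (zpowers_le.2 (c1s.1 ?_) hw)
  have k : ∀ x ∈ (S : Subgroup G) ⊓ Cen1 v, x ∈ Cen1 (a * b) := fun x hx =>
    c1.2 (cen.1 (h.ab hx) _ (mul_mem h.aT h.bT))
  by_cases e : x ∈ Cen1 v
  · exact k x ⟨hx, e⟩
  · have := mul_mem (k _ (h.out hx e h.sS h.s1)) (inv_mem (c1'.2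
      (show s * (a * b) * s⁻¹ = a * b by rw [← conj_mul, h.sa, h.sb, h.cab.eq])))
    rwa [mul_inv_cancel_right] at this

theorem inv (hx : x ∈ (S : Subgroup G)) (x1 : x ∉ Cen1 v) (xx : x * x = 1) :
    ∃ t ∈ (S : Subgroup G), t * s * t⁻¹ = x := by
  obtain ⟨i, j, e⟩ := h.mem _ (h.out hx x1 h.sS h.s1)
  have e1 : x = a ^ i * b ^ j * s := by rw [← e, mul_assoc, h.ss, mul_one]
  have e2 : a ^ (i + j) = b ^ (-(i + j)) := by
    have : x * x = a ^ i * b ^ j * (s * (a ^ i * b ^ j) * s⁻¹) * (s * s) := by rw [e1]; group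
    rw [← conj_mul, ← conj_zpow, ← conj_zpow, h.sa, h.sb, h.ss, xx, mul_one, mul_assoc,
      ← mul_assoc (b ^ j), ← zpow_add, ← (h.cab.zpow_zpow _ _).eq, ← mul_assoc, ← zpow_add] at this
    rw [zpow_neg, eq_inv_iff_mul_eq_one, add_comm i j, this, add_comm i j]
  have e3 : b ^ j = b ^ (-i) := by
    have := h.ind _ _ e2
    rw [e2] at this
    rw [← mul_one (b ^ j), ← this]; group
  refine ⟨a ^ i, (S : Subgroup G).zpow_mem h.aS i, ?_⟩
  rw [e1, e3, ← h.sa, conj_zpow]; group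

theorem wc1 (hw : w ∈ zpowers (a * b)) (hg : g ∈ Cen1 z)
    (hx : g * w * g⁻¹ ∈ (S : Subgroup G) ⊓ Cen1 v) : g * w * g⁻¹ = w := by
  have key : ∀ n ∈ Cen1 z, n * (g * w * g⁻¹) * n⁻¹ = w → conjS n ((S : Subgroup G) ⊓ Cen1 v) ≤ S →
      n ∈ Cen1 v → g * w * g⁻¹ = w := fun n hn e le nv => by
    have := cb h.syl h.ab ⟨hn, nv⟩ (mem_normalizer_of_conjS_le (le_inf le ((conjS_mono n
      inf_le_right).trans (conjS_eq_of_mem nv).le))) fun x hx xx => c1s.1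
        ((V_le (c1s.1 hn) (c1s.1 nv) : V4 z v ≤ Cen1 n) ((h.t3.mem x).2 ⟨hx, xx⟩))
    rwa [cen.1 this _ hx, mul_inv_cancel_right] at e
  obtain ⟨m, hm, e, le⟩ := ext_conj (h.yc hw) h.cz hg S.2.to_inf_left (inf_le_left.trans h.cz)
    fun x hx' => c1.2 (cen.1 (h.ab hx') _ hx)
  have m1 := h.sqT (le (conj_mem_conjS (pow_mem h.aT (2 ^ n))))
  rw [conj_mul, ← sq, ← pow_mul, ← pow_succ, h.av] at m1
  rcases h.f4.fix_or (mem_normalizer_of_conjS_le (by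
    rw [conj_V, c1'.1 hm]
    exact V_le (t_V _ _) ((h.t3.mem _).2 ⟨m1, ii (iconj h.f4.ha m)⟩))) hm with e1 | e1
  · exact key m hm e le (c1'.2 e1)
  · refine key (s * m) (mul_mem (h.cz h.sS) hm) ?_ ?_ (c1'.2 ?_)
    · exact (by group : _ = s * (m * (g * w * g⁻¹) * m⁻¹) * s⁻¹).trans
        (e.symm ▸ c1'.1 (h.yc hw h.sS))
    · rw [← conjS_conjS]
      exact (conjS_mono s le).trans (conjS_eq_of_mem h.sS).le
    · exact (by group : _ = s * (m * v * m⁻¹) * s⁻¹).trans (e1.symm ▸ h.sz)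

theorem wc (h3 : ¬ R3 (S : Subgroup G)) (hw : w ∈ zpowers (a * b)) (hg : g ∈ Cen1 z)
    (hx : g * w * g⁻¹ ∈ (S : Subgroup G)) : g * w * g⁻¹ = w := by
  by_cases x1 : g * w * g⁻¹ ∈ Cen1 v
  · exact h.wc1 hw hg ⟨hx, x1⟩
  exfalso
  have wT := h.yT hw
  have e2 := h.wc1 (mul_mem hw hw) hg (by rw [← conj_mul]; exact h.sqT hx)
  obtain ⟨r, e⟩ : ∃ r, g * w * g⁻¹ = r * w := ⟨g * w * g⁻¹ * w⁻¹, by group⟩
  have rS : r ∈ (S : Subgroup G) := by
    have := mul_mem hx (inv_mem wT.1)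
    rwa [e, mul_inv_cancel_right] at this
  have rv : r ∉ Cen1 v := fun m => x1 (e ▸ mul_mem m wT.2)
  have rw' := c1.1 (h.yc hw rS)
  have rr : r * r = 1 := by
    rw [← conj_mul, e, mul_assoc, ← mul_assoc w, ← rw', mul_assoc, ← mul_assoc] at e2
    exact mul_eq_right.1 e2
  have or : orderOf r = 2 := orderOf_eq_prime (by rwa [sq]) fun e => rv (e ▸ one_mem _)
  have f : F4 z r := ⟨h.f4.ht, or, (c1.1 (h.cz rS)).symm, fun e => rv (e ▸ h.f4.tH)⟩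
  have wA : w ∈ (S : Subgroup G) ⊓ Cen1 r := ⟨wT.1, c1.2 rw'.symm⟩
  have cj : ∀ c ∈ Cen1 z, c * r * c⁻¹ ∈ (S : Subgroup G) → c * w * c⁻¹ ∈ (S : Subgroup G) →
      ∃ t ∈ (S : Subgroup G), t * (c * r * c⁻¹) * t⁻¹ = r := fun c hc m1 m2 => by
    have : c * r * c⁻¹ ∉ Cen1 v := fun m => by
      have m3 : c * w * c⁻¹ ∈ Cen1 v := by
        have m4 : c * w * c⁻¹ ∈ Cen1 (c * r * c⁻¹) := conj_c1 c r ▸ conj_mem_conjS wA.2
        rcases h.f4.mem_V.1 ((h.t3.mem _).2 ⟨⟨m1, m⟩, ii (iconj or c)⟩) with e | e | e | e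
        · exact absurd e (ine (iconj or c))
        · exact absurd (by simpa using e.trans (c1'.1 hc).symm) f.ne
        · rwa [e] at m4
        · exact h.f4.cen_a (h.cz m2) (e ▸ m4)
      have e3 : c * g * w * (c * g)⁻¹ = c * r * c⁻¹ * (c * w * c⁻¹) := by
        rw [conj_mul, ← e]; group
      have := h.wc1 hw (mul_mem hc hg) (e3 ▸ ⟨mul_mem m1 m2, mul_mem m m3⟩)
      rw [e3, h.wc1 hw hc ⟨m2, m3⟩] at this
      exact ine (iconj or c) (mul_eq_right.1 this)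
    obtain ⟨t, ht, e1⟩ := h.inv m1 this (ii (iconj or c))
    obtain ⟨t', ht', e2⟩ := h.inv rS rv rr
    exact ⟨t' * t⁻¹, mul_mem ht' (inv_mem ht), by rw [← e1, ← e2]; group⟩
  have rA : r ∈ (S : Subgroup G) ⊓ Cen1 r := ⟨rS, c1.2 rfl⟩
  have ab : (S : Subgroup G) ⊓ Cen1 r ≤ Cen ((S : Subgroup G) ⊓ Cen1 r) := by
    have k : ∀ x ∈ (S : Subgroup G) ⊓ Cen1 r, x ∈ Cen1 v → x ∈ Cen ((S : Subgroup G) ⊓ Cen1 r) :=
      fun x hx xv => cen.2 fun y hy => by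
        by_cases e : y ∈ Cen1 v
        · exact cen.1 (h.ab ⟨hx.1, xv⟩) y ⟨hy.1, e⟩
        · have := cen.1 (h.ab ⟨hx.1, xv⟩) _ (h.out hy.1 e rS rv)
          rwa [mul_assoc y, ← c1.1 hx.2, ← mul_assoc, ← mul_assoc, mul_left_inj] at this
    intro x hx
    by_cases e : x ∈ Cen1 v
    · exact k x hx e
    · have := mul_mem (k _ (mul_mem hx rA) (h.out hx.1 e rS rv).2) (inv_mem (cen_iff_le.2
        (inf_le_right : (S : Subgroup G) ⊓ Cen1 r ≤ _)))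
      rwa [mul_inv_cancel_right] at this
  have syl : IsSylowOf 2 ((S : Subgroup G) ⊓ Cen1 r) (Cen1 z ⊓ Cen1 r) := by
    obtain ⟨P, hP, le⟩ := exists_isSylowOf_ge (K := Cen1 z ⊓ Cen1 r) (S.2.to_inf_left)
      (inf_le_inf_right _ h.cz)
    obtain ⟨c, hc, e⟩ := ((isSylowOf_top S).of_le h.cz le_top).exists_conj_le hP.isPGroup
      (hP.le.trans inf_le_left)
    obtain ⟨t, ht, e1⟩ := cj c hc (e (conj_mem_conjS (le rA))) (e (conj_mem_conjS (le wA)))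
    refine hP.of_card_le S.2.to_inf_left (inf_le_inf_right _ h.cz) ((card_conjS (t * c) P).ge.trans
      (card_le_of_le (le_inf ?_ ?_)))
    · rw [← conjS_conjS]
      exact (conjS_mono t e).trans (conjS_eq_of_mem ht).le
    · exact (conjS_mono _ (hP.le.trans inf_le_right)).trans (conjS_eq_of_mem (c1'.2
        ((by group : _ = t * (c * r * c⁻¹) * t⁻¹).trans e1))).le
  obtain ⟨m, hm, e0, le⟩ := ext_conj (h.yc hw) h.cz hg S.2.to_inf_left
    ((inf_le_left (b := Cen1 r)).trans h.cz) fun x hx' =>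
      e ▸ c1s.1 (mul_mem (c1s.1 hx'.2) (c1s.1 (h.yc hw hx'.1)))
  obtain ⟨t, ht, e1⟩ := cj m hm (le (conj_mem_conjS rA)) (le (conj_mem_conjS wA))
  have mr : t * m ∈ Cen1 r := c1'.2 ((by group : _ = t * (m * r * m⁻¹) * t⁻¹).trans e1)
  have mz := mul_mem (h.cz ht) hm
  have := cb syl ab ⟨mz, mr⟩ (mem_normalizer_of_conjS_le (le_inf (by
    rw [← conjS_conjS]
    exact (conjS_mono t le).trans (conjS_eq_of_mem ht).le) ((conjS_mono _
      inf_le_right).trans (conjS_eq_of_mem mr).le))) fun x hx xx => c1s.1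
        ((V_le (c1s.1 mz) (c1s.1 mr) : V4 z r ≤ Cen1 _)
          (noE h3 f h.zS rS hx.1 xx (h.cz hx.1) hx.2))
  have e4 : t * m * (r * w) * (t * m)⁻¹ = w :=
    (by group : _ = t * (m * (r * w) * m⁻¹) * t⁻¹).trans (by rw [← e, e0, c1'.1 (h.yc hw ht)])
  rw [cen.1 this _ (mul_mem rA wA), mul_inv_cancel_right] at e4
  exact ine or (mul_eq_right.1 e4)

end WR

end CK
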