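import Cfsg.Agent.CK.I
import Cfsg.Agent.CK.E3

/-! The local quotient; the wreathed case. -/

set_option autoImplicit false
set_option linter.unusedVariables false
set_option linter.unusedSectionVars false

namespace CK

open Cfsg Subgroup FT H4 H5 GW
open H5.Dich (R3)

universe u

theorem s5_6 : ∀ A : S5, A * A * A * A = 1 → A * A ≠ 1 → ∃ c : S5, c * A * c⁻¹ = a5 := by
  decide +kernel

theorem s5_7 : ∀ B : S5, B * B = 1 → B * a5 * B⁻¹ = a5⁻¹ →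
    B = t5 ∨ a5 * B * a5⁻¹ = t5 ∨ ∃ c : S5, c * (a5 * a5) * c⁻¹ = B := by decide +kernel

theorem s5_8 : ∀ A : S5, A * A * A * A * (A * A * A * A) = 1 → A * A * A * A = 1 := by
  decide +kernel

theorem p4 {Y : Type*} [Monoid Y] (A : Y) : A ^ 4 = A * A * A * A := by
  simp only [pow_succ, pow_zero, one_mul]

theorem norm5 {Y : Type*} [Group Y] (e : Y ≃* S5) {A B : Y} (h4 : A ^ 4 = 1) (h2 : A * A ≠ 1)
    (hB : B * B = 1) (hi : B * A * B⁻¹ = A⁻¹) (nc : ¬ IsConj (A * A) B) :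
    ∃ e : Y ≃* S5, e A = a5 ∧ e B = t5 := by
  obtain ⟨c, hc⟩ := s5_6 (e A) (by rw [← p4, ← map_pow, h4, map_one])
    (by rwa [← map_mul, Ne, e.map_eq_one_iff])
  obtain ⟨e, hc⟩ : ∃ e : Y ≃* S5, e A = a5 := ⟨e.trans (MulAut.conj c), hc⟩
  rcases s5_7 (e B) (by rw [← map_mul, hB, map_one])
    (by rw [← hc, ← map_inv, ← map_inv, ← map_mul, ← map_mul, hi]) with h | h | ⟨c, h⟩
  · exact ⟨e, hc, h⟩
  · exact ⟨e.trans (MulAut.conj a5), by simp [hc], h⟩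
  · obtain ⟨c, rfl⟩ := e.surjective c
    rw [← hc, ← map_inv, ← map_mul, ← map_mul, ← map_mul] at h
    exact absurd (isConj_iff.2 ⟨c, e.injective h⟩) nc

variable {G X Y : Type u} [Group G] [Finite G] [Group X] [Finite X] [Group Y] [Finite Y]
  {S : Sylow 2 G} {W : Subgroup G} {z : G} {π : Cen1 z →* X} {ρ : X →* Y} {y : Cen1 z}

/-- the local quotient -/
structure LQ (S : Sylow 2 G) (z : G) (π : Cen1 z →* X) (ρ : X →* Y) (y : Cen1 z) : Prop where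
  cz : (S : Subgroup G) ≤ Cen1 z
  hπ : Function.Surjective π
  kπ : π.ker = pPrimeCore 2 (Cen1 z)
  h0 : pPrimeCore 2 X = ⊥
  hρ : Function.Surjective ρ
  kρ : ρ.ker = zpowers (π y)
  cen : ∀ g, g * π y = π y * g
  yS : (y : G) ∈ (S : Subgroup G)

theorem ex_LQ (cz : (S : Subgroup G) ≤ Cen1 z) (yS : (y : G) ∈ (S : Subgroup G))
    (wc : ∀ w ∈ zpowers (y : G), ∀ g ∈ Cen1 z, g * w * g⁻¹ ∈ (S : Subgroup G) → g * w * g⁻¹ = w) :
    ∃ (X Y : Type u) (_ : Group X) (_ : Finite X) (_ : Group Y) (_ : Finite Y) (π : Cen1 z →* X)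
      (ρ : X →* Y), LQ S z π ρ y := by
  let π := QuotientGroup.mk' (pPrimeCore 2 (Cen1 z))
  have hπ : Function.Surjective π := QuotientGroup.mk'_surjective _
  have h0 := pPrimeCore_quotient_pPrimeCore 2 (Cen1 z)
  obtain ⟨m, hm⟩ := isPGroup_iff_forall.1 S.2 y yS
  have hm' : y ^ 2 ^ m = 1 := Subtype.ext hm
  have c := ze m _ ((S.subtype cz).mapSurjective hπ) (π y) h0 ⟨y, yS, rfl⟩
    (by rw [← map_pow, hm', map_one]) (by
      rintro _ ⟨j, rfl⟩ g hg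
      obtain ⟨g, rfl⟩ := hπ g
      simp only [← map_zpow, ← map_inv, ← map_mul] at hg ⊢
      obtain ⟨c, ⟨t, ht, hc⟩, e⟩ := ((isSylowOf_top (S.subtype cz)).of_le (le_comap_map π _)
        le_top).exists_conj_le (L.PElt.isPGroup_zpowers (u := g * y ^ j * g⁻¹) ⟨m, by
          rw [conj_pow, ← zpow_natCast, ← zpow_mul, mul_comm j, zpow_mul, zpow_natCast, hm']
          group⟩) (zpowers_le.2 hg)
      have e1 : c * (g * y ^ j * g⁻¹) * c⁻¹ = y ^ j := Subtype.ext ((by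
          simp only [coe_mul, coe_inv, coe_zpow]; group :
        _ = (c * g : G) * (y ^ j : G) * (c * g : G)⁻¹).trans (wc _ ⟨j, rfl⟩ _ (c * g).2 (by
          have : ((c * (g * y ^ j * g⁻¹) * c⁻¹ : Cen1 z) : G) ∈ (S : Subgroup G) :=
            e (conj_mem_conjS (mem_zpowers _))
          simpa [mul_assoc] using this)))
      have e2 : t⁻¹ * y ^ j * t⁻¹⁻¹ = y ^ j := Subtype.ext (wc _ ⟨j, rfl⟩ _ t⁻¹.2
        (cmem (le_normalizer (inv_mem ht)) ((S : Subgroup G).zpow_mem yS j)))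
      calc _ = π (c⁻¹ * (c * (g * y ^ j * g⁻¹) * c⁻¹) * c⁻¹⁻¹) := congrArg π (by group)
        _ = _ := by rw [e1, map_mul, map_mul, map_inv, map_inv, map_inv, ← hc, ← map_inv, ← map_inv,
          ← map_mul, ← map_mul, e2])
  have := normal_zp c
  exact ⟨_, _, _, inferInstance, _, inferInstance, π, QuotientGroup.mk' (zpowers (π y)), cz, hπ,
    QuotientGroup.ker_mk' _, h0, QuotientGroup.mk'_surjective _, QuotientGroup.ker_mk' _, c, yS⟩

namespace LQ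

variable (q : LQ S z π ρ y)
include q

theorem odd : Odd (Nat.card π.ker) := q.kπ ▸ odd_iff_cop.2 (coprime_card_pPrimeCore 2 _)

theorem inj {x : Cen1 z} (hx : (x : G) ∈ (S : Subgroup G)) (e : π x = 1) : x = 1 := by
  obtain ⟨m, hm⟩ := isPGroup_iff_forall.1 S.2 x hx
  exact orderOf_eq_one_iff.1 (Nat.Coprime.eq_one_of_dvd (Nat.Coprime.pow_right m
    (odd_iff_cop.1 (odd_ord q.odd e))) (orderOf_dvd_of_pow_eq_one (Subtype.ext hm)))

theorem ker {x : Cen1 z} (hx : (x : G) ∈ (S : Subgroup G)) : ρ (π x) = 1 ↔ x ∈ zpowers y := by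
  rw [← MonoidHom.mem_ker, q.kρ]
  refine ⟨fun ⟨j, e⟩ => ⟨j, eq_of_mul_inv_eq_one (q.inj (mul_mem ((S : Subgroup G).zpow_mem q.yS j)
    (inv_mem hx)) ?_)⟩, fun ⟨j, e⟩ => ⟨j, by simp only [← e, map_zpow]⟩⟩
  rw [map_mul, map_inv, map_zpow, ← e, mul_inv_cancel]

theorem hs : Function.Surjective (ρ.comp π) := q.hρ.comp q.hπ

/-- the image of the Sylow subgroup -/
def T : Sylow 2 Y := (S.subtype q.cz).mapSurjective q.hs

theorem mT {x : Cen1 z} (hx : (x : G) ∈ (S : Subgroup G)) : ρ (π x) ∈ (q.T : Subgroup Y) :=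
  ⟨x, hx, rfl⟩

theorem card : Nat.card (S : Subgroup G) = Nat.card (q.T : Subgroup Y) * orderOf y := by
  rw [← Nat.card_congr (subgroupOfEquivOfLe q.cz).toEquiv, card_eq_card_map_mul (ρ.comp π),
    ← Nat.card_zpowers]
  congr 3
  ext x
  exact ⟨fun h => (q.ker h.1).1 h.2, fun h => have := (zpowers_le (H := (S : Subgroup G).subgroupOf _)).2 q.yS h
    ⟨this, (q.ker this).2 h⟩⟩

theorem mH (H : Hy S W) (zS : z ∈ (S : Subgroup G)) (oz : orderOf z = 2) {g : Cen1 z} :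
    ρ (π g) ∈ ((Nor W).subgroupOf (Cen1 z)).map (ρ.comp π) ↔ (g : G) ∈ Nor W := by
  refine SetLike.ext_iff.1 (comap_map_eq_self (f := ρ.comp π) (H := (Nor W).subgroupOf (Cen1 z))
    fun x hx => ?_) g
  obtain ⟨j, e⟩ : π x ∈ zpowers (π y) := q.kρ ▸ hx
  have : (y ^ j)⁻¹ * x ∈ π.ker := by
    rw [MonoidHom.mem_ker, map_mul, map_inv, map_zpow, ← e, inv_mul_cancel]
  have := mul_mem ((Nor W).zpow_mem (H.le q.yS) j)
    (le_normalizer (H.Ule (H.le zS) oz ⟨_, q.kπ ▸ this, rfl⟩))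
  simpa [mem_subgroupOf] using this

theorem ll (H : Hy S W) (zS : z ∈ (S : Subgroup G)) (oz : orderOf z = 2) (hM : ¬ Cen1 z ≤ Nor W)
    (d2 : D2 Y) {i o t : Cen1 z} (iS : (i : G) ∈ (S : Subgroup G)) (oS : (o : G) ∈ (S : Subgroup G))
    (tS : (t : G) ∈ (S : Subgroup G)) (f4 : F4 (ρ (π i)) (ρ (π o)))
    (cen : ∀ x : Cen1 z, (x : G) ∈ (S : Subgroup G) → ρ (π x) ∈ Cen1 (ρ (π i)))
    (cj : ρ (π t) * ρ (π o) * (ρ (π t))⁻¹ = ρ (π i) * ρ (π o)) (nc : ¬ IsConj (ρ (π i)) (ρ (π o))) :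
    LL (((Nor W).subgroupOf (Cen1 z)).map (ρ.comp π)) q.T (ρ (π i)) (ρ (π o)) :=
  ⟨d2, core_central ρ q.hρ q.h0 q.cen q.kρ, fun e => hM fun g hg =>
    (q.mH H zS oz (g := ⟨g, hg⟩)).1 (e.ge trivial), map_mono fun x hx => H.le hx, f4, q.mT iS,
    q.mT oS, by rintro _ ⟨x, hx, rfl⟩; exact cen x hx, ⟨_, q.mT tS, cj⟩, nc⟩

theorem fg (H : Hy S W) (zS : z ∈ (S : Subgroup G)) {o : Cen1 z} (f : F4 z (o : G))
    (oS : (o : G) ∈ (S : Subgroup G)) (g : Y)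
    (hg : g * ρ (π o) * g⁻¹ ∈ ((Nor W).subgroupOf (Cen1 z)).map (ρ.comp π)) :
    g ∈ ((Nor W).subgroupOf (Cen1 z)).map (ρ.comp π) := by
  obtain ⟨g, rfl⟩ := q.hs g
  simp only [MonoidHom.comp_apply, ← map_inv, ← map_mul] at hg ⊢
  exact (q.mH H zS f.ht).2 (H.fg' f (H.le zS) (H.le oS) g.2 ((q.mH H zS f.ht).1 hg))

end LQ

theorem WR.fus {v k a b s : G} (h : WR S z v k 0 a b s) (f : G → ℂ) (cl : IsClassFunction G f) :
    f a + f (a ^ 3) + f (a * b ^ 2) + f (a ^ 3 * b ^ 2) =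
      f (a * b) + f (a * b)⁻¹ + 2 * f (a * b⁻¹) := by
  have a4 : a ^ 4 = 1 := orderOf_dvd_iff_pow_eq_one.1 h.oa.dvd
  have av : a ^ 2 = v := h.av
  have bv : b ^ 2 = z * v := h.bv
  have yz : (a * b) ^ 2 = z := h.yz
  have c := h.cab
  have bb : b ^ 2 * b ^ 2 = 1 := bv ▸ h.f4.sq
  have e1 := (i3 a a4).symm
  have e3 : (a ^ 3)⁻¹ = a := by rw [← e1, inv_inv]
  have e5 : (b ^ 2)⁻¹ = b ^ 2 := inv_eq_of_mul_eq_one_right bb
  have e2 : (a * b ^ 2)⁻¹ = a ^ 3 * b ^ 2 := by rw [(c.pow_right 2).eq, mul_inv_rev, e1, e5]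
  have e4 : (a ^ 3 * b ^ 2)⁻¹ = a * b ^ 2 := by rw [← e2, inv_inv]
  obtain ⟨x, hx⟩ : ∃ x, k * (a * b) * k⁻¹ = x := ⟨_, rfl⟩
  have xT : x ∈ _ := hx ▸ cmem h.t3.nor (mul_mem h.aT h.bT)
  have q1 : k * (a * b⁻¹) * k⁻¹ = x⁻¹ * b ^ 2 := by
    rw [eq_inv_mul_iff_mul_eq, ← hx, conj_mul, bv, ← h.kv, ← av, c.eq, mul_assoc b, ← mul_assoc a a,
      ← sq, ← mul_assoc b, ← (c.pow_left 2).eq, mul_inv_cancel_right]
  have q2 : s * (a * b⁻¹) * s⁻¹ = (a * b⁻¹)⁻¹ := by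
    rw [← conj_mul, ← conj_inv, h.sa, h.sb, mul_inv_rev, inv_inv]
  have r : f (a * b) + f (a * b)⁻¹ + 2 * f (a * b⁻¹) =
      f x + f x⁻¹ + f (x⁻¹ * b ^ 2) + f (x⁻¹ * b ^ 2)⁻¹ := by
    rw [← q1, ← hx, conj_inv, conj_inv, cl, cl, cl, cl, ← q2, cl]; ring
  have m : x * a⁻¹ ∈ V4 z v := (h.t3.mem _).2 ⟨mul_mem xT (inv_mem h.aT), by
    rw [← sq, (show Commute x a⁻¹ from cen.1 (h.ab xT) _ (inv_mem h.aT)).mul_pow, ← hx, conj_pow,
      yz, h.kz, inv_pow, av, mul_inv_cancel]⟩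
  rw [r]
  have : x = a ∨ x = a ^ 3 * b ^ 2 ∨ x = a ^ 3 ∨ x = a * b ^ 2 := by
    rcases h.f4.mem_V.1 m with e | e | e | e <;> rw [mul_inv_eq_iff_eq_mul] at e
    · exact Or.inl (e.trans (one_mul a))
    · refine Or.inr (Or.inl ?_)
      rw [e, ← yz, c.mul_pow, mul_assoc, ← (c.pow_right 2).eq, ← mul_assoc, ← pow_succ]
    · exact Or.inr (Or.inr (Or.inl (by rw [e, ← av, ← pow_succ])))
    · exact Or.inr (Or.inr (Or.inr (by rw [e, ← bv, (c.pow_right 2).eq])))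
  rcases this with rfl | rfl | rfl | rfl <;>
    simp only [e1, e2, e3, e4, mul_assoc, bb, mul_one] <;> ring

theorem WR.false {v k a b s : G} {n : ℕ} (h : WR S z v k n a b s) (H : Hy S W)
    (h3 : ¬ R3 (S : Subgroup G)) (hM : ¬ Cen1 z ≤ Nor W) (h0 : W ≠ ⊥) : False := by
  lift a to Cen1 z using h.cz h.aS
  lift b to Cen1 z using h.cz h.bT.1
  lift s to Cen1 z using h.cz h.sS
  lift v to Cen1 z using h.cz h.vS
  obtain ⟨X, Y, _, _, _, _, π, ρ, q⟩ := ex_LQ (y := a * b) h.cz (mul_mem h.aS h.bT.1)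
    fun w hw g hg => h.wc h3 hw hg
  have ss : s * s = 1 := Subtype.ext h.ss
  have sa : s * a * s⁻¹ = b := Subtype.ext h.sa
  have ab : Commute a b := Subtype.ext h.cab
  have av : a ^ 2 ^ (n + 1) = v := Subtype.ext h.av
  have yz : (a * b) ^ 2 ^ (n + 1) = ⟨z, c1.2 rfl⟩ := Subtype.ext h.yz
  have yy : a * s * (a * s) = a * b := by
    rw [← sa, inv_eq_of_mul_eq_one_right ss]; group
  obtain ⟨φ, hφ⟩ : ∃ φ : Cen1 z →* Y, φ = ρ.comp π := ⟨_, rfl⟩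
  have fe : ∀ x, ρ (π x) = φ x := fun x => by rw [hφ]; rfl
  have y1 : φ (a * b) = 1 := fe _ ▸ (q.ker q.yS).2 (mem_zpowers _)
  have z1 : φ ⟨z, c1.2 rfl⟩ = 1 := by rw [← yz, map_pow, y1, one_pow]
  have fb : φ b = (φ a)⁻¹ := eq_inv_of_mul_eq_one_right (by rw [← map_mul, y1])
  have fs : φ s * φ a * (φ s)⁻¹ = (φ a)⁻¹ := by rw [← fb, ← sa, map_mul, map_mul, map_inv]
  have mT : ∀ x : Cen1 z, (x : G) ∈ (S : Subgroup G) ⊓ Cen1 (v : G) → φ x ∈ zpowers (φ a) :=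
    fun x hx => by
      obtain ⟨i, j, e⟩ := h.mem _ hx
      rw [show x = a ^ i * b ^ j from Subtype.ext e, map_mul, map_zpow, map_zpow, fb]
      exact mul_mem (zpow_mem (mem_zpowers _) _) (zpow_mem (inv_mem (mem_zpowers _)) _)
  have d2 : D2 Y := D2_of_sylow q.T (x := φ a) (by
    have k : ∀ x : Cen1 z, (x : G) ∈ (S : Subgroup G) → φ x ∉ zpowers (φ a) →
        (x : G) ∉ Cen1 (v : G) := fun x hx n e => n (mT x ⟨hx, e⟩)
    rintro _ ⟨x, hx, rfl⟩ n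
    rw [← hφ] at n ⊢
    obtain ⟨i, e⟩ := mT (x * s) (h.out hx (k x hx n) h.sS h.s1)
    have e1 : φ x = φ a ^ i * φ s := by
      rw [show φ a ^ i = _ from e, ← map_mul, mul_assoc, ss, mul_one]
    refine ⟨?_, ?_, ?_⟩
    · rw [e1, show φ a ^ i * φ s * (φ a ^ i * φ s) = φ a ^ i * (φ s * φ a * (φ s)⁻¹) ^ i *
        (φ s * φ s) by rw [conj_zpow]; group, fs, ← map_mul, ss, map_one]; group
    · rw [e1, show φ a ^ i * φ s * φ a * (φ a ^ i * φ s)⁻¹ = φ a ^ i * (φ s * φ a * (φ s)⁻¹) *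
        (φ a ^ i)⁻¹ by group, fs]; group
    · rintro _ ⟨x', hx', rfl⟩ n'
      rw [← hφ] at n' ⊢
      exact map_mul φ x x' ▸ mT _ (h.out hx (k x hx n) hx' (k x' hx' n')))
  have ne : ∀ x : Cen1 z, (x : G) ∈ (S : Subgroup G) → φ x = 1 → (x : G) ∈ zpowers (a * b : G) :=
    fun x hx e => by
      obtain ⟨j, e⟩ := (q.ker hx).1 (fe x ▸ e)
      exact ⟨j, congrArg Subtype.val e⟩
  have vv : v * v = 1 := Subtype.ext (ii h.f4.ha)
  have v1 : φ v ≠ 1 := fun e => h.nc (h.yc (ne v h.vS e))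
  have oS := mul_mem h.aS h.sS
  have cen : ∀ x : Cen1 z, (x : G) ∈ (S : Subgroup G) → φ x ∈ Cen1 (φ v) := fun x hx => by
    rw [c1', ← map_inv, ← map_mul, ← map_mul]
    rcases h.two x hx with e | e
    · rw [show x * v * x⁻¹ = v from Subtype.ext e]
    · rw [show x * v * x⁻¹ = ⟨z, c1.2 rfl⟩ * v from Subtype.ext e, map_mul, z1, one_mul]
  have nc : ¬ IsConj (φ v) (φ (a * s)) := fun e => by
    obtain ⟨g, e⟩ := isConj_iff.1 e
    obtain ⟨g, rfl⟩ := q.hρ g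
    obtain ⟨j, e1⟩ : (π (a * s))⁻¹ * (g * π v * g⁻¹) ∈ zpowers (π (a * b)) := by
      rw [← q.kρ, MonoidHom.mem_ker]
      simp only [map_mul ρ, map_inv, fe, e, inv_mul_cancel]
    have e2 : g * π v * g⁻¹ = π (a * s) * π (a * b) ^ j := by
      rw [show π (a * b) ^ j = _ from e1, mul_inv_cancel_left]
    have e3 : g * π v * g⁻¹ * (g * π v * g⁻¹) = 1 := by rw [conj_mul, ← map_mul, vv]; simp
    rw [e2, ← sq, ((show Commute _ _ from q.cen _).zpow_right j).mul_pow, sq, ← map_mul, yy,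
      ← zpow_natCast, ← zpow_mul, ← zpow_one_add, ← map_zpow] at e3
    have e4 := q.inj ((S : Subgroup G).zpow_mem q.yS _) e3
    have e5 : (⟨z, c1.2 rfl⟩ : Cen1 z) ^ (1 + j * (2 : ℕ)) = 1 := by
      rw [← yz, ← zpow_natCast (a * b), ← zpow_mul, mul_comm, zpow_mul, e4, one_zpow]
    have e6 : z ^ (1 + j * (2 : ℕ)) = 1 := congrArg Subtype.val e5
    rw [← orderOf_dvd_iff_zpow_eq_one, h.f4.ht] at e6
    omega
  have oo : φ (a * s) * φ (a * s) = 1 := by rw [← map_mul, yy, y1]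
  have f4 : F4 (φ v) (φ (a * s)) := ⟨orderOf_eq_prime (by rw [sq, ← map_mul, vv, map_one]) v1,
    orderOf_eq_prime (by rwa [sq]) fun e => h.s1 (by
      simpa using mul_mem ((Cen1 _).inv_mem h.aT.2) (h.yT (ne _ oS e)).2),
    (c1.1 (cen _ oS)).symm, fun e => nc (e ▸ IsConj.refl _)⟩
  obtain ⟨T8, ⟨e⟩⟩ := (q.ll H h.zS h.f4.ht hM d2 (i := v) (o := a * s) (t := a ^ 2 ^ n) h.vS oS
    (pow_mem h.aS _) (by rwa [fe, fe]) (fun x hx => by rw [fe, fe]; exact cen x hx) (by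
      simp only [fe, map_mul, map_pow, ← av]
      rw [show φ a ^ 2 ^ n * (φ a * φ s) * (φ a ^ 2 ^ n)⁻¹ = φ a ^ 2 ^ n * φ a *
        ((φ s * φ a * (φ s)⁻¹) ^ 2 ^ n)⁻¹ * φ s by rw [conj_pow]; group, fs, pow_succ 2, pow_mul,
        inv_pow, inv_inv, sq]
      group) (by rwa [fe, fe])).caseB (q.fg H h.zS h.f4 h.vS)
  have a4 : a ^ 2 ^ (n + 2) = 1 := Subtype.ext (orderOf_dvd_iff_pow_eq_one.1 h.oa.dvd)
  obtain rfl : n = 0 := by
    by_contra n0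
    obtain ⟨m, rfl⟩ := Nat.exists_eq_succ_of_ne_zero n0
    have := s5_8 (e (φ (a ^ 2 ^ m))) (by
      rw [← p4, ← sq, ← map_pow, ← map_pow, ← map_pow, ← map_pow, ← pow_mul, ← pow_mul,
        show 2 ^ m * (4 * 2) = 2 ^ (m.succ + 2) by rw [Nat.succ_eq_add_one]; ring, a4, map_one, map_one])
    rw [← p4, ← map_pow, ← map_pow, ← pow_mul, show 2 ^ m * 4 = 2 ^ (m.succ + 1) by
      rw [Nat.succ_eq_add_one]; ring, av, e.map_eq_one_iff] at this
    exact v1 this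
  replace av : a * a = v := sq a ▸ av
  replace yz : (a * b) ^ 2 = ⟨z, c1.2 rfl⟩ := yz
  replace a4 : a ^ 4 = 1 := a4
  obtain ⟨e, ea, et⟩ := norm5 e (A := φ a) (B := φ (a * s)) (by rw [← map_pow, a4, map_one])
    (by rwa [← map_mul, av]) oo (by
      rw [map_mul, show φ a * φ s * φ a * (φ a * φ s)⁻¹ = φ a * (φ s * φ a * (φ s)⁻¹) * (φ a)⁻¹ by
        group, fs]; group) (by rwa [← map_mul, av])
  have := Fintype.ofFinite G
  have := Fintype.ofFinite X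
  have := H.sim
  have zz : (⟨z, c1.2 rfl⟩ : Cen1 z) ≠ 1 := fun e => ine h.f4.ht (congrArg Subtype.val e)
  have y4 : (a * b) ^ 4 = 1 := by
    rw [ab.mul_pow, ← sa, conj_pow, a4]; group
  have hs : Function.Surjective (e.toMonoidHom.comp ρ) := e.surjective.comp q.hρ
  have hk : (e.toMonoidHom.comp ρ).ker = zpowers (π a * π b) := by
    rw [← map_mul, ← q.kρ]; ext x; simp
  obtain ⟨w, w1, w2⟩ := ex_reg hs (fun x hx => by
    rw [hk, ← map_mul] at hx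
    obtain ⟨j, rfl⟩ := hx
    exact ⟨L.PElt.zpow ⟨2, by rw [← map_pow]; exact (congrArg π y4).trans (map_one π)⟩ j,
      fun g => ((show Commute _ _ from q.cen g).zpow_right j).symm⟩) (y := w5) (reg_rg.2 (by decide))
  exact wr2 H.hG S.2 (by
      rw [q.card, T8, orderOf_eq_prime_pow (p := 2) (n := 1) (fun e => zz (yz.symm.trans e)) y4]; rfl)
    H.odd H.le h0 (fun t ht o => (H.th t (H.le ht) o).le)
    ⟨h.f4.ht, q.hπ, q.odd, by rw [← map_mul, ← map_pow, yz]⟩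
    ⟨hs, hk, by rw [← map_pow, a4, map_one], by rw [← map_mul, ss, map_one],
      by rw [← sa, map_mul, map_mul, map_inv], ab.map π, fun g => map_mul π a b ▸ (q.cen g).symm,
      fun e => zz (q.inj h.zS (by rw [← yz, map_pow, map_mul, e])), (congrArg e (fe a)).trans ea,
      (congrArg e ((congrArg ρ (map_mul π a s).symm).trans (fe _))).trans et, w2, w1⟩
    a4 ss sa ab h.yz h.aS h.bT.1 (isConj_iff.2 ⟨k, h.kz.trans h.av.symm⟩) h.fus

end CK
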