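import Cfsg.Agent.CK.J
import Cfsg.Agent.GW.Cv2

/-! The semidihedral case. -/

set_option autoImplicit false
set_option linter.unusedVariables false
set_option linter.unusedSectionVars false

namespace CK

open Cfsg Subgroup FT H4 H5 GW
open H5.Dich (R3)

universe u

theorem s4 {Y : Type*} [Group Y] [Finite Y] {V : Subgroup Y} {i o : Y} (c4 : Nat.card V = 4)
    (el : ∀ x ∈ V, x * x = 1) (hn : V.Normal) (hC : Cen V ≤ V) (f : F4 i o) (iV : i ∈ V)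
    (nc : ¬ IsConj i o) (h2 : ¬ IsPGroup 2 Y) : ∃ g w, w = o * (g * o * g⁻¹) ∧ w ^ 3 = 1 ∧
      w * (w * i * w⁻¹) * w⁻¹ = i * (w * i * w⁻¹) := by
  have N : ∀ g, g ∈ Nor V := fun g => (normalizer_eq_top_iff.2 hn).ge trivial
  have F : ∀ j ∈ V, j ≠ 1 → j ≠ i → F4 i j ∧ V4 i j = V := fun j hj j1 ji => by
    have f' : F4 i j := ⟨f.ht, orderOf_eq_prime (by rw [sq, el j hj]) j1, by
      have := el _ (mul_mem iV hj)
      rw [← inv_eq_iff_mul_eq_one, mul_inv_rev, iinv f.ht,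
        inv_eq_of_mul_eq_one_right (el j hj)] at this
      exact this.symm, ji⟩
    exact ⟨f', eq_of_le_of_card_ge (V_le iV hj) (by rw [c4, f'.card_V])⟩
  obtain ⟨g, g1, og⟩ : ∃ g : Y, g ≠ 1 ∧ Odd (orderOf g) := by
    by_contra! n
    refine h2 fun y => ?_
    obtain ⟨a, -, b, -, e, p, o⟩ := exists_pPart 2 y
    by_cases e1 : b = 1
    · rwa [e, e1, mul_one]
    · exact absurd (odd_iff_cop.2 o) (n b e1)
  have gi : g ∉ Cen1 i := fun e => by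
    obtain ⟨j, hj, j1⟩ := SetLike.exists_of_lt (lt_of_le_of_ne (zpowers_le.2 iV) fun e => by
      rw [← e, Nat.card_zpowers, f.ht] at c4; omega)
    obtain ⟨f', e'⟩ := F j hj (fun e => j1 (e ▸ one_mem _)) fun e => j1 (e ▸ mem_zpowers _)
    have := el g (hC (e' ▸ cen_V i j ▸ ⟨e, f'.odd_fix (e'.symm ▸ N g) e og⟩))
    exact g1 (orderOf_eq_one_iff.1 (Nat.Coprime.eq_one_of_dvd (odd_iff_cop.1 og)
      (orderOf_dvd_of_pow_eq_one (by rwa [sq]))))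
  obtain ⟨j, e1⟩ : ∃ j, g * i * g⁻¹ = j := ⟨_, rfl⟩
  obtain ⟨f', rfl⟩ := F j (e1 ▸ cmem (N g) iV) (e1 ▸ ine (iconj f.ht g)) fun e => gi (c1'.2 (e1.trans e))
  have e2 : g * j * g⁻¹ = i * j := by
    rcases f'.mem_V.1 (cmem (N g) (a_V i j)) with e | e | e | e
    · exact absurd e (ine (iconj f'.ha g))
    · refine absurd (GW.mem_of_sq_mem og (c1'.2 ?_)) gi
      rw [show g * g * i * (g * g)⁻¹ = g * (g * i * g⁻¹) * g⁻¹ by group, e1, e]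
    · exact absurd (by simpa using e.trans e1.symm) f'.ne
    · exact e
  have e3 : g * (i * j) * g⁻¹ = i := by rw [← conj_mul, e1, e2, f'.ata]
  have o1 := c1'.1 f.aH
  have o2 : o * j * o⁻¹ = i * j := (f'.fix_or (N o) f.aH).resolve_left fun e => by
    rcases f'.mem_V.1 (hC (cen_V i j ▸ ⟨f.aH, c1'.2 e⟩ : o ∈ Cen _)) with e | e | e | e
    · exact ine f.ha e
    · exact f.ne e
    · exact nc (isConj_iff.2 ⟨g, e1.trans e.symm⟩)
    · exact nc (isConj_iff.2 ⟨g⁻¹, by rw [e]; nth_rewrite 1 [← e3]; group⟩)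
  have o3 : o * (i * j) * o⁻¹ = j := by rw [← conj_mul, o1, o2, f'.tta]
  obtain ⟨w, hw⟩ : ∃ w, w = o * (g * o * g⁻¹) := ⟨_, rfl⟩
  have cj : ∀ x, w * (g * x * g⁻¹) * w⁻¹ = o * (g * (o * x * o⁻¹) * g⁻¹) * o⁻¹ := fun x => by
    rw [hw]; group
  have w1 : w * i * w⁻¹ = j := by rw [← e3, cj, o3, e2, o3]
  have w2 : w * j * w⁻¹ = i * j := by nth_rewrite 1 [← e1]; rw [cj, o1, e1, o2]
  have w3 : w * (i * j) * w⁻¹ = i := by rw [← conj_mul, w1, w2, f'.ata]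
  have c3 : ∀ x, w ^ 3 * x * (w ^ 3)⁻¹ = w * (w * (w * x * w⁻¹) * w⁻¹) * w⁻¹ := fun x => by
    simp only [pow_succ, pow_zero]; group
  refine ⟨g, w, hw, ?_, by rw [w1, w2]⟩
  have c : w * w ^ 3 * w⁻¹ = w ^ 3 := by group
  rcases f'.mem_V.1 (hC (cen_V i j ▸ ⟨c1'.2 (by rw [c3, w1, w2, w3]),
    c1'.2 (by rw [c3, w2, w3, w1])⟩ : w ^ 3 ∈ Cen _)) with e | e | e | e
  · exact e
  · exact absurd (by rwa [e, w1] at c) f'.ne
  · exact absurd (by simpa [e, w2] using c) (ine f'.ht)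
  · exact absurd (by simpa [e, w3] using c) (ine f'.ha)

theorem gl23 {X Y : Type*} [Group X] [Finite X] [Group Y] [Finite Y] {ρ : X →* Y} {i b g : X}
    (hk : ρ.ker = zpowers (i ^ 2)) (hc : ∀ g, g * i ^ 2 = i ^ 2 * g) (o : orderOf (i ^ 2) = 2)
    (bb : b * b = 1) (bi : b * i * b⁻¹ = i⁻¹) {w : Y} (hw : w = ρ (b * (g * b * g⁻¹)))
    (w3 : w ^ 3 = 1) (w2 : w * (w * ρ i * w⁻¹) * w⁻¹ = ρ i * (w * ρ i * w⁻¹)) :
    ∃ ψ : H8.GL23 →* X, Function.Injective ψ ∧ ψ (H9.glI ^ 2) = i ^ 2 := by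
  have k : ∀ x, ρ x = 1 → x = 1 ∨ x = i ^ 2 := fun x hx =>
    mem_zp2 (ii o) (hk ▸ (hx : x ∈ ρ.ker))
  obtain ⟨x, hx⟩ : ∃ x, x = b * (g * b * g⁻¹) := ⟨_, rfl⟩
  have bx : b * x * b⁻¹ = x⁻¹ := by
    rw [hx, mul_inv_rev, conj_inv, inv_eq_of_mul_eq_one_right bb, ← mul_assoc b b, bb, one_mul]
  have u3 : (x ^ 4) ^ 3 = 1 := by
    rw [← pow_mul, mul_comm, pow_mul]
    rcases k (x ^ 3) (by rw [map_pow, hx, ← hw, w3]) with e | e <;> rw [e]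
    · exact one_pow _
    · rw [show 4 = 2 * 2 from rfl, pow_mul, sq (i ^ 2), ii o, one_pow]
  have ru : ρ (x ^ 4) = w := by rw [map_pow, hx, ← hw, pow_succ, w3, one_mul]
  have bu : b * x ^ 4 * b⁻¹ = (x ^ 4)⁻¹ := by rw [← conj_pow, bx, inv_pow]
  generalize x ^ 4 = u at u3 ru bu
  have i4 : i ^ 4 = 1 := by rw [show 4 = 2 + 2 from rfl, pow_add, ii o]
  have key : ∀ i' : X, i' ^ 2 = i ^ 2 → b * i' * b⁻¹ = i'⁻¹ →
      u * (u * i' * u⁻¹) * u⁻¹ = i' * (u * i' * u⁻¹) →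
      ∃ ψ : H8.GL23 →* X, Function.Injective ψ ∧ ψ (H9.glI ^ 2) = i ^ 2 := fun i' e1 e2 e3 => by
    have j2 : (u * i' * u⁻¹) ^ 2 = i' ^ 2 := by rw [conj_pow, e1, hc, mul_inv_cancel_right]
    have k2 : (i' * (u * i' * u⁻¹)) ^ 2 = (u * i' * u⁻¹) ^ 2 := by
      rw [← e3, conj_pow, j2, e1, hc, mul_inv_cancel_right]
    obtain ⟨ψ, inj, e, -⟩ := Z6.exists_emb (i := i') (j := u * i' * u⁻¹) (u := u) (t := b)
      (by rw [show 4 = 2 + 2 from rfl, pow_add, e1, ii o]) (by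
        generalize u * i' * u⁻¹ = j at k2
        rw [sq, sq, ← mul_assoc, mul_left_inj] at k2
        rw [mul_inv_eq_iff_eq_mul, eq_inv_mul_iff_mul_eq, ← mul_assoc, k2]) j2 rfl e3 u3 e2 bu (by rwa [sq]) (e1 ▸ ine o)
    exact ⟨ψ, inj, by rw [map_pow, e, e1]⟩
  obtain ⟨j, hj⟩ : ∃ j, u * i * u⁻¹ = j := ⟨_, rfl⟩
  rcases k ((i * j)⁻¹ * (u * j * u⁻¹)) (by
    simp only [← hj, map_mul, map_inv, ru, w2, inv_mul_cancel]) with e | e
  · exact key i rfl bi (by rw [hj, ← inv_mul_eq_one.1 e])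
  · rw [inv_mul_eq_iff_eq_mul] at e
    have j2 : j ^ 2 = i ^ 2 := by rw [← hj, conj_pow, hc, mul_inv_cancel_right]
    have k2 : (u * j * u⁻¹) ^ 2 = i ^ 2 := by rw [conj_pow, j2, hc, mul_inv_cancel_right]
    have iv : ∀ x : X, x ^ 2 = i ^ 2 → x⁻¹ = x * i ^ 2 := fun x e => by
      rw [inv_eq_iff_mul_eq_one, ← mul_assoc, ← sq, e, ii o]
    refine key i⁻¹ (by rw [inv_pow, iinv o]) (by rw [← conj_inv, bi]) ?_
    rw [← conj_inv, ← conj_inv, hj, iv _ k2, iv _ j2, iv i rfl, e, mul_assoc (i * j), ii o, mul_one,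
      mul_assoc i, ← mul_assoc (i ^ 2), ← hc, mul_assoc j, ii o, mul_one]

variable {G : Type u} [Group G] [Finite G] {S : Sylow 2 G} {W : Subgroup G} {z a b : G} {m : ℕ}

theorem sd_false (h : SDS S m a b) (az : a ^ 2 ^ (m + 2) = z) (H : Hy S W)
    (hM : ¬ Cen1 z ≤ Nor W) (h0 : W ≠ ⊥) : False := by
  have cz : (S : Subgroup G) ≤ Cen1 z := fun x hx => az ▸ h.cen hx
  have oz : orderOf z = 2 := az ▸ h.oz
  have zS : z ∈ (S : Subgroup G) := az ▸ pow_mem h.haS _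
  lift a to Cen1 z using cz h.haS
  lift b to Cen1 z using cz h.hbS
  obtain ⟨X, Y, _, _, _, _, π, ρ, q⟩ := ex_LQ (y := ⟨z, c1.2 rfl⟩) cz zS fun w hw g hg _ =>
    c1'.1 (c1s.1 (zpowers_le.2 (c1s.1 hg) hw))
  have h' : SDS (S.subtype cz) m a b := ⟨h.haS, h.hbS, (orderOf_coe a).symm.trans h.ha,
    Subtype.ext h.hb2, Subtype.ext h.hab, fun ⟨j, e⟩ => h.hb ⟨j, congrArg Subtype.val e⟩,
    fun x hx => (h.hmem x hx).imp fun j e => e.imp Subtype.ext Subtype.ext⟩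
  have az' : a ^ 2 ^ (m + 2) = ⟨z, c1.2 rfl⟩ := Subtype.ext az
  obtain ⟨φ, hφ⟩ : ∃ φ : Cen1 z →* Y, φ = ρ.comp π := ⟨_, rfl⟩
  have fe : ∀ x, ρ (π x) = φ x := fun x => by rw [hφ]; rfl
  have z1 : φ ⟨z, c1.2 rfl⟩ = 1 := fe _ ▸ (q.ker q.yS).2 (mem_zpowers _)
  obtain ⟨i, hi⟩ : ∃ i, a ^ 2 ^ (m + 1) = i := ⟨_, rfl⟩
  have iS : (i : G) ∈ (S : Subgroup G) := hi ▸ pow_mem h.haS _
  have i2 : i ^ 2 = ⟨z, c1.2 rfl⟩ := by rw [← hi, ← pow_mul, ← pow_succ, az']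
  have oz' : orderOf (⟨z, c1.2 rfl⟩ : Cen1 z) = 2 := (orderOf_coe _).symm.trans oz
  have bi : b * i * b⁻¹ = i⁻¹ := by
    have := h'.cj ((2 ^ (m + 1) : ℕ) : ℤ)
    rwa [zpow_neg, zpow_natCast, hi, show ((2 ^ (m + 1) : ℕ) : ℤ) = 2 * 2 ^ m by push_cast; ring,
      h'.z_even, mul_one] at this
  have fs : φ b * φ a * (φ b)⁻¹ = (φ a)⁻¹ := by
    rw [← map_inv, ← map_mul, ← map_mul, h'.hab, az', map_mul, z1, mul_one, map_inv]
  have oζ : orderOf (π i ^ 2) = 2 := orderOf_eq_prime (by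
    rw [← map_pow, ← map_pow, i2, sq, ii oz', map_one]) fun e => ine oz' (q.inj zS (by
      rw [← i2, map_pow, e]))
  have eζ : π ⟨z, c1.2 rfl⟩ = π i ^ 2 := by rw [← map_pow, i2]
  have i0 : φ i * φ i = 1 := by rw [← sq, ← map_pow, i2, z1]
  have cen : ∀ x : Cen1 z, (x : G) ∈ (S : Subgroup G) → φ x ∈ Cen1 (φ i) := fun x hx => by
    have h1 : φ a ∈ Cen1 (φ i) := c1c.2 (hi ▸ (Commute.self_pow a _).map φ)
    have h2 : φ b ∈ Cen1 (φ i) := c1'.2 (by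
      rw [← map_inv, ← map_mul, ← map_mul, bi, map_inv, inv_eq_of_mul_eq_one_right i0])
    obtain ⟨j, rfl | rfl⟩ := h'.hmem x hx
    · exact map_zpow φ a j ▸ zpow_mem h1 j
    · exact map_mul φ _ b ▸ map_zpow φ a j ▸ mul_mem (zpow_mem h1 j) h2
  have nc : ¬ IsConj (φ i) (φ b) := fun e => by
    obtain ⟨g, e⟩ := isConj_iff.1 e
    obtain ⟨g, rfl⟩ := q.hρ g
    obtain ⟨j, e1⟩ : (π b)⁻¹ * (g * π i * g⁻¹) ∈ zpowers (π ⟨z, c1.2 rfl⟩) := by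
      rw [← q.kρ, MonoidHom.mem_ker]
      simp only [map_mul ρ, map_inv, fe, e, inv_mul_cancel]
    have e2 : g * π i * g⁻¹ = π b * π ⟨z, c1.2 rfl⟩ ^ j := by
      rw [show π ⟨z, c1.2 rfl⟩ ^ j = _ from e1, mul_inv_cancel_left]
    have e3 : (g * π i * g⁻¹) ^ 2 = π i ^ 2 := by
      rw [conj_pow, ← eζ, q.cen, mul_inv_cancel_right]
    rw [e2, ((show Commute _ _ from q.cen _).zpow_right j).mul_pow, sq, ← map_mul, h'.hb2, map_one,
      one_mul, ← zpow_natCast, ← zpow_mul, mul_comm, zpow_mul, zpow_natCast, eζ, sq (_ ^ 2), ii oζ,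
      one_zpow] at e3
    exact ine oζ e3.symm
  have bz : b ∉ zpowers (⟨z, c1.2 rfl⟩ : Cen1 z) := fun e =>
    h'.hb (zpowers_le.2 (az' ▸ npow_mem_zpowers a _) e)
  have f4 : F4 (φ i) (φ b) := ⟨orderOf_eq_prime (by rwa [sq]) fun e => by
      rcases mem_zp2 (ii oz') ((q.ker iS).1 (fe i ▸ e)) with e | e
      · exact ine oz' (by rw [← i2, e, one_pow])
      · exact ine oz' (by rw [← i2, e, sq, ii oz']),
    orderOf_eq_prime (by rw [sq, ← map_mul, h'.hb2, map_one]) fun e =>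
      bz ((q.ker h.hbS).1 (fe b ▸ e)), (c1.1 (cen _ h.hbS)).symm, fun e => nc (e ▸ IsConj.refl _)⟩
  have f : F4 z b := ⟨oz, orderOf_eq_prime (by rw [sq, h.hb2]) fun e => h.hb (e ▸ one_mem _),
    (c1.1 b.2).symm, fun e => bz (by rw [show b = ⟨z, c1.2 rfl⟩ from Subtype.ext e]; exact mem_zpowers _)⟩
  have l := q.ll H zS oz hM (h'.d2 _ q.hs (by rw [az', ← hφ, z1])) (i := i) (o := b)
    (t := a ^ 2 ^ m) iS h.hbS (pow_mem h.haS _) (by rwa [fe, fe])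
    (fun x hx => by rw [fe, fe]; exact cen x hx) (by
      simp only [fe, map_pow, ← hi]
      rw [show φ a ^ 2 ^ m * φ b * (φ a ^ 2 ^ m)⁻¹ = φ a ^ 2 ^ m *
        ((φ b * φ a * (φ b)⁻¹) ^ 2 ^ m)⁻¹ * φ b by rw [conj_pow]; group, fs, pow_succ 2, pow_mul,
        inv_pow, inv_inv, sq]) (by rwa [fe, fe])
  obtain ⟨t, s, f', hn, hC⟩ := l.caseA (q.fg H zS f h.hbS)
  have el : ∀ x ∈ V4 t s, x * x = 1 := fun x hx => by
    rcases f'.mem_V.1 hx with e | e | e | e <;> simp [e, ii f'.ht, ii f'.ha, f'.sq]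
  obtain ⟨k, -, VT⟩ := (isSylowOf_top q.T).exists_conj_le (Q := V4 t s)
    (.of_card (n := 2) f'.card_V) le_top
  replace VT := (mem_normalizer_iff_conjS.1 ((normalizer_eq_top_iff.2 hn).ge
    (mem_top k))).ge.trans VT
  obtain ⟨g, w, hw, w3, w2⟩ := s4 f'.card_V el hn hC l.f4 (hC (cen_iff_le.2 (VT.trans l.cen))) l.nc
    fun e => l.ne (eq_top_iff.2 (((isSylowOf_top q.T).eq_of_le (e.to_subgroup ⊤) le_top
      le_rfl).le.trans l.TH))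
  obtain ⟨g, rfl⟩ := q.hρ g
  obtain ⟨ψ, inj, e⟩ := gl23 (ρ := ρ) (i := π i) (b := π b) (g := g) (eζ ▸ q.kρ) (eζ ▸ q.cen) oζ
    (by rw [← map_mul, h'.hb2, map_one]) (by rw [← map_inv, ← map_mul, ← map_mul, bi, map_inv])
    (by rw [hw, map_mul, map_mul, map_mul, map_inv]) w3 w2
  have bij : Function.Bijective ψ := (Nat.bijective_iff_injective_and_card _).2 ⟨inj, le_antisymm
    (Nat.card_le_card_of_injective _ inj) (by
      have h1 := Nat.le_of_dvd (by norm_num) (card_four f' hn hC)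
      have h2 := ρ.ker.card_mul_index
      rw [index_ker, MonoidHom.range_eq_top.2 q.hρ, card_top, q.kρ, Nat.card_zpowers, eζ, oζ] at h2
      rw [H9.card_GL23]
      omega)⟩
  let ε := (MulEquiv.ofBijective ψ bij).symm
  have := Fintype.ofFinite G
  have := Fintype.ofFinite H8.GL23
  have := H.sim
  obtain ⟨χ, hχ, χ1, d⟩ := small1 H.hG (π := ε.toMonoidHom.comp π) ⟨oz, ε.surjective.comp q.hπ,
    by convert q.odd using 3; ext x; simp, by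
      rw [MonoidHom.comp_apply, eζ, ← e]; exact (MulEquiv.ofBijective ψ bij).symm_apply_apply _⟩
  obtain ⟨-, -, -, d', -, le⟩ := free H.hG S.2 H.odd H.le h0
    (fun t ht o => (H.th t (H.le ht) o).le) hχ χ1
  obtain ⟨c, hc⟩ := card_dvd_of_le (zpowers_le.2 h.haS)
  have c0 : c ≠ 0 := fun e => Nat.card_pos.ne' (by rw [hc, e, mul_zero])
  have c1 : c ≠ 1 := fun e => h.hb ((eq_of_le_of_card_ge (zpowers_le.2 h.haS)
    (by rw [hc, e, mul_one])).ge h.hbS)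
  rw [Nat.card_zpowers, h.ha, pow_add] at hc
  have : 1 * 2 ≤ 2 ^ m * c := Nat.mul_le_mul Nat.one_le_two_pow (by omega)
  rw [mul_right_comm] at hc
  omega

theorem Hy.cen (H : Hy S W) (h3 : ¬ R3 (S : Subgroup G)) (hz : z ∈ (S : Subgroup G))
    (oz : orderOf z = 2) (cz : (S : Subgroup G) ≤ Cen1 z) (h0 : W ≠ ⊥) : Cen1 z ≤ Nor W := by
  by_contra hM
  rcases H.cases h3 hz oz cz hM with ⟨m, a, b, h, e⟩ | ⟨v, k, n, a, b, s, h⟩
  · exact sd_false h e H hM h0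
  · exact h.false H h3 hM h0

end CK
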