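import Cfsg.Agent.CK.K
import Cfsg.Agent.GC.K

/-! Thompson's core-killing theorem. -/

set_option autoImplicit false
set_option linter.unusedVariables false
set_option linter.unusedSectionVars false

namespace CK

open Cfsg Subgroup FT H4 H5 GW
open H5.Dich (R3)

universe u

variable {G : Type u} [Group G] [Finite G] {S : Sylow 2 G} {W : Subgroup G}

theorem Hy.eq_bot (H : Hy S W) (hS : (S : Subgroup G) ≠ ⊥) : W = ⊥ := by
  have := H.sim
  obtain ⟨z, hz, zz, z1, cz⟩ := H5.Dich.exists_central S.2 hS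
  have oz : orderOf z = 2 := orderOf_eq_prime (by rwa [sq]) z1
  have hO := H5.Dich.oddCore_eq_bot_of_simple (G := G) (oz ▸ orderOf_dvd_natCard z)
  by_cases h3 : R3 (S : Subgroup G)
  · refine le_bot_iff.1 ((GC.kUp _ G (G ⧸ Nor W) ((1 : G) : G ⧸ Nor W) W (Nat.lt_succ_self _)
      ⟨fun x y => MulAction.exists_smul_eq G x y, ⟨S, isSylowOf_top S, ?_, h3⟩, ?_, H.odd, ?_, ?_,
        fun a ha i g hg => ?_⟩).trans (GC.Od_top.trans hO).le)
    · rw [SF.St_one]; exact H.le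
    · intro a b ia ib hne hc x y h1 h2 h3 h4
      obtain ⟨g, rfl⟩ := QuotientGroup.mk_surjective x
      obtain ⟨h, rfl⟩ := QuotientGroup.mk_surjective y
      rw [SF.smul_mk_eq] at h1 h2 h3 h4
      have f : F4 a b := ⟨orderOf_eq_prime (by rw [sq, ia.2]) ia.1,
        orderOf_eq_prime (by rw [sq, ib.2]) ib.1, hc, hne.symm⟩
      rw [QuotientGroup.eq]
      exact H.fg (f.conj h⁻¹) (by simpa using h3) (by simpa using h4)
        (by simpa [mul_assoc] using h1) (by simpa [mul_assoc] using h2)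
    · rw [SF.St_one]; exact le_normalizer
    · rw [SF.St_one]
    · rw [SF.St_one] at ha
      rw [H.th a ha (orderOf_eq_prime (by rw [sq, i.2]) i.1)]
      exact nUo a hg
  by_contra h0
  obtain ⟨v, ⟨vS, vz⟩, cj⟩ := H.ex4 hz oz cz
  obtain ⟨g, rfl⟩ := isConj_iff.1 cj
  have f : F4 z (g * z * g⁻¹) := ⟨oz, iconj oz g, (c1.1 (cz vS)).symm, vz⟩
  by_cases n : Nor W = ⊤
  · exact h0 (GC.eq_bot_of_Od (GC.Od_top.trans hO) n.ge H.odd)
  exact h0 (H5.Dich.eq_bot_of_se BS.seThm (_root_.W.se_crit (isSylowOf_top S) hS n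
    (fun x hx => H.fg f (H.le hz) (H.le vS) (H.le (cmem hx hz)) (H.le (cmem hx vS)))
    fun t ht o => H.all h3 hz oz cz (H.cen h3 hz oz cz h0) ht o)
    (H7.not_prankLE_top_iff.mpr ⟨V4 z (g * z * g⁻¹), f.V_eq ▸ elem_four _ _ _, f.card_V.ge⟩) hO
    le_normalizer le_rfl H.odd.not_two_dvd_nat)

theorem thompson [IsSimpleGroup G] (hG : ¬ IsMulCommutative G) (S : Sylow 2 G) {W : Subgroup G}
    (hW : W = ⨆ x : {x : G // x ∈ S ∧ orderOf x = 2}, Uo (x : G)) (odd : Odd (Nat.card W))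
    (hf : ∀ x ∈ S, orderOf x = 2 → W ⊓ Cen1 x = Uo x) {t : G} (ht : orderOf t = 2) : Uo t = ⊥ := by
  have le : (S : Subgroup G) ≤ Nor W := fun g hg => mem_normalizer_of_conjS_le (by
    rw [hW, conjS, Subgroup.map_iSup]
    exact iSup_le fun x => (conj_Uo g x).le.trans (le_iSup (fun x : {x : G // x ∈ S ∧ orderOf x = 2} =>
      Uo (x : G)) ⟨g * x * g⁻¹, cmem (le_normalizer hg) x.2.1, iconj x.2.2 g⟩))
  obtain ⟨c, -, e⟩ := (isSylowOf_top S).exists_conj_le (two_zp ht) le_top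
  have m := e (conj_mem_conjS (mem_zpowers t))
  have := Hy.eq_bot ⟨inferInstance, hG, odd, le, fun t ht o => by
    obtain ⟨k, hk, e⟩ := ((isSylowOf_top S).of_le le le_top).exists_conj_le (two_zp o)
      (zpowers_le.2 ht)
    refine conjS_injective k ?_
    rw [conjS_inf, conj_c1, conj_Uo, mem_normalizer_iff_conjS.1 hk]
    exact hf _ (e (conj_mem_conjS (mem_zpowers t))) (iconj o k)⟩ fun e =>
      ine (iconj ht c) (mem_bot.1 (e ▸ m))
  refine conjS_injective c ?_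
  rw [conj_Uo, ← hf _ m (iconj ht c), this, bot_inf_eq, conjS, Subgroup.map_bot]

end CK
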